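import Mathlib

/-!
# Split `(B,N)`-pairs, minimal axioms (project DL, Mackey count; helper8)

`SBN cs G U T N π n X`: subgroups of an ambient group `Y` with a Bruhat decomposition `G = U N U`.
The structure passes to the fixed points of an automorphism (`SBN.fix`), and `|U a U| = |U| Q ^ ℓ(a)`.
-/

set_option autoImplicit false

namespace Cfsg.Agent.DL.Mk

open CoxeterSystem

variable {I W Y : Type*} [Group W] [Group Y] {M : CoxeterMatrix I}

/-- Split `(B,N)`-pair data inside an ambient group. -/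
structure SBN (cs : CoxeterSystem M W) (G U T N : Subgroup Y) (π : Y → W) (n : I → Y)
    (X : I → Subgroup Y) : Prop where
  T_le : T ≤ N
  N_le : N ≤ G
  U_le : U ≤ G
  X_le : ∀ i, X i ≤ U
  T_comm : ∀ a ∈ T, ∀ b ∈ T, a * b = b * a
  π_mul : ∀ a ∈ N, ∀ b ∈ N, π (a * b) = π a * π b
  π_eq_one : ∀ a ∈ N, π a = 1 ↔ a ∈ T
  n_mem : ∀ i, n i ∈ N
  π_n : ∀ i, π (n i) = cs.simple i
  T_norm : ∀ t ∈ T, ∀ u ∈ U, t * u * t⁻¹ ∈ U
  dec : ∀ i, ∀ u ∈ U, ∃ ξ ∈ X i, (n i)⁻¹ * (ξ⁻¹ * u) * n i ∈ U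
  dec_uniq : ∀ i, ∀ ξ ∈ X i, (n i)⁻¹ * ξ * n i ∈ U → ξ = 1
  up : ∀ i, ∀ a ∈ N, cs.length (π a) < cs.length (π a * cs.simple i) → ∀ ξ ∈ X i, a * ξ * a⁻¹ ∈ U
  rk1 : ∀ i, ∀ ξ ∈ X i, ξ ≠ 1 → ∃ a ∈ X i, ∃ t ∈ T, ∃ b ∈ X i, n i * ξ * n i = a * t * n i * b
  uniq : ∀ a ∈ N, ∀ b ∈ N, ∀ u ∈ U, ∀ v ∈ U, a = u * b * v → a = b
  cover : ∀ g ∈ G, ∃ u ∈ U, ∃ a ∈ N, ∃ v ∈ U, g = u * a * v

/-- The double coset `U a U`. -/
def dc (U : Subgroup Y) (a : Y) : Set Y := {g | ∃ u ∈ U, ∃ v ∈ U, g = u * a * v}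

/-- Fixed points of an automorphism. -/
def fix (σ : MulAut Y) : Subgroup Y where
  carrier := {y | σ y = y}
  mul_mem' := fun {a b} (ha : σ a = a) (hb : σ b = b) => by
    show σ (a * b) = a * b
    rw [map_mul, ha, hb]
  one_mem' := map_one σ
  inv_mem' := fun {a} (ha : σ a = a) => by
    show σ a⁻¹ = a⁻¹
    rw [map_inv, ha]

theorem mem_fix {σ : MulAut Y} {y : Y} : y ∈ fix σ ↔ σ y = y := Iff.rfl

theorem mfx {σ : MulAut Y} {K : Subgroup Y} {y : Y} (h : y ∈ K ⊓ fix σ) : y ∈ fix σ := h.2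

theorem mkfx {σ : MulAut Y} {K : Subgroup Y} {y : Y} (h : y ∈ K) (h' : y ∈ fix σ) : y ∈ K ⊓ fix σ := ⟨h, h'⟩

theorem self_mem_dc (U : Subgroup Y) (a : Y) : a ∈ dc U a := ⟨1, one_mem _, 1, one_mem _, by group⟩

theorem dc_mul_left {U : Subgroup Y} {a g u : Y} (hg : g ∈ dc U a) (hu : u ∈ U) : u * g ∈ dc U a := by
  obtain ⟨x, hx, y, hy, rfl⟩ := hg
  exact ⟨u * x, mul_mem hu hx, y, hy, by group⟩

theorem dc_mul_right {U : Subgroup Y} {a g u : Y} (hg : g ∈ dc U a) (hu : u ∈ U) : g * u ∈ dc U a := by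
  obtain ⟨x, hx, y, hy, rfl⟩ := hg
  exact ⟨x, hx, y * u, mul_mem hy hu, by group⟩

theorem dc_trans {U : Subgroup Y} {a b g : Y} (hg : g ∈ dc U b) (hb : b ∈ dc U a) : g ∈ dc U a := by
  obtain ⟨x, hx, y, hy, rfl⟩ := hg
  exact dc_mul_right (dc_mul_left hb hx) hy

theorem dc_symm {U : Subgroup Y} {a g : Y} (hg : g ∈ dc U a) : a ∈ dc U g := by
  obtain ⟨x, hx, y, hy, rfl⟩ := hg
  exact ⟨x⁻¹, inv_mem hx, y⁻¹, inv_mem hy, by group⟩

theorem dc_inv {U : Subgroup Y} {a g : Y} (hg : g ∈ dc U a) : g⁻¹ ∈ dc U a⁻¹ := by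
  obtain ⟨x, hx, y, hy, rfl⟩ := hg
  exact ⟨y⁻¹, inv_mem hy, x⁻¹, inv_mem hx, by group⟩

theorem dc_mul_left_iff {U : Subgroup Y} {a g u : Y} (hu : u ∈ U) : u * g ∈ dc U a ↔ g ∈ dc U a :=
  ⟨fun h => by simpa using dc_mul_left h (inv_mem hu), fun h => dc_mul_left h hu⟩

theorem dc_mul_right_iff {U : Subgroup Y} {a g u : Y} (hu : u ∈ U) : g * u ∈ dc U a ↔ g ∈ dc U a :=
  ⟨fun h => by simpa using dc_mul_right h (inv_mem hu), fun h => dc_mul_right h hu⟩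

theorem dc_mono {U U' : Subgroup Y} (h : U ≤ U') (a : Y) : dc U a ⊆ dc U' a := by
  rintro g ⟨x, hx, y, hy, rfl⟩
  exact ⟨x, h hx, y, h hy, rfl⟩

/-- The product of the chosen reflections along a word. -/
def lw (n : I → Y) (ω : List I) : Y := (ω.map n).prod

theorem lw_nil (n : I → Y) : lw n [] = 1 := rfl

theorem lw_cons (n : I → Y) (i : I) (ω : List I) : lw n (i :: ω) = n i * lw n ω := by
  simp [lw]

theorem lw_mem {n : I → Y} {K : Subgroup Y} (h : ∀ i, n i ∈ K) (ω : List I) : lw n ω ∈ K := by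
  induction ω with
  | nil => exact one_mem _
  | cons i ω ih => rw [lw_cons]; exact mul_mem (h i) ih

/-- A chosen reduced word. -/
noncomputable def rword (cs : CoxeterSystem M W) (w : W) : List I := (cs.exists_isReduced w).choose

theorem rword_reduced (cs : CoxeterSystem M W) (w : W) : cs.IsReduced (rword cs w) :=
  (cs.exists_isReduced w).choose_spec.1

theorem wordProd_rword (cs : CoxeterSystem M W) (w : W) : cs.wordProd (rword cs w) = w :=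
  (cs.exists_isReduced w).choose_spec.2.symm

theorem length_rword (cs : CoxeterSystem M W) (w : W) : (rword cs w).length = cs.length w := by
  have := rword_reduced cs w
  unfold CoxeterSystem.IsReduced at this
  rw [← this, wordProd_rword]

/-- The chosen lift of an element of the Weyl group. -/
noncomputable def lift (cs : CoxeterSystem M W) (n : I → Y) (w : W) : Y := lw n (rword cs w)

namespace SBN

variable {cs : CoxeterSystem M W} {G U T N : Subgroup Y} {π : Y → W} {n : I → Y} {X : I → Subgroup Y}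
  (S : SBN cs G U T N π n X)

include S

theorem π_one : π 1 = 1 := (S.π_eq_one 1 (one_mem _)).2 (one_mem _)

theorem π_T {t : Y} (ht : t ∈ T) : π t = 1 := (S.π_eq_one t (S.T_le ht)).2 ht

theorem π_inv {a : Y} (ha : a ∈ N) : π a⁻¹ = (π a)⁻¹ := by
  rw [eq_inv_iff_mul_eq_one, ← S.π_mul _ (inv_mem ha) _ ha, inv_mul_cancel, S.π_one]

theorem π_T_mul {t a : Y} (ht : t ∈ T) (ha : a ∈ N) : π (t * a) = π a := by
  rw [S.π_mul _ (S.T_le ht) _ ha, S.π_T ht, one_mul]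

theorem π_mul_T {t a : Y} (ha : a ∈ N) (ht : t ∈ T) : π (a * t) = π a := by
  rw [S.π_mul _ ha _ (S.T_le ht), S.π_T ht, mul_one]

theorem mem_T_of_π_eq {a b : Y} (ha : a ∈ N) (hb : b ∈ N) (h : π a = π b) : a * b⁻¹ ∈ T := by
  rw [← S.π_eq_one _ (mul_mem ha (inv_mem hb)), S.π_mul _ ha _ (inv_mem hb), S.π_inv hb, h, mul_inv_cancel]

theorem mem_T_of_π_eq' {a b : Y} (ha : a ∈ N) (hb : b ∈ N) (h : π a = π b) : a⁻¹ * b ∈ T := by
  rw [← S.π_eq_one _ (mul_mem (inv_mem ha) hb), S.π_mul _ (inv_mem ha) _ hb, S.π_inv ha, h, inv_mul_cancel]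

theorem conj_T {a t : Y} (ha : a ∈ N) (ht : t ∈ T) : a * t * a⁻¹ ∈ T :=
  S.mem_T_of_π_eq (mul_mem ha (S.T_le ht)) ha (S.π_mul_T ha ht)

theorem conj_T' {a t : Y} (ha : a ∈ N) (ht : t ∈ T) : a⁻¹ * t * a ∈ T := by
  simpa using S.conj_T (inv_mem ha) ht

/-- conjugation on `T` depends only on the image in `W` -/
theorem conj_T_eq {a b t : Y} (ha : a ∈ N) (hb : b ∈ N) (h : π a = π b) (ht : t ∈ T) :
    a * t * a⁻¹ = b * t * b⁻¹ := by
  have h1 := S.mem_T_of_π_eq' hb ha h.symm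
  have h2 := S.T_comm _ h1 _ ht
  calc a * t * a⁻¹ = b * (b⁻¹ * a * t) * a⁻¹ := by group
    _ = b * t * b⁻¹ := by rw [h2]; group

theorem T_norm' {t u : Y} (ht : t ∈ T) (hu : u ∈ U) : t⁻¹ * u * t ∈ U := by
  simpa using S.T_norm _ (inv_mem ht) _ hu

theorem lw_mem_N (ω : List I) : lw n ω ∈ N := lw_mem S.n_mem ω

theorem π_lw (ω : List I) : π (lw n ω) = cs.wordProd ω := by
  induction ω with
  | nil => rw [lw_nil, S.π_one, wordProd_nil]
  | cons i ω ih => rw [lw_cons, S.π_mul _ (S.n_mem i) _ (S.lw_mem_N ω), S.π_n, ih, wordProd_cons]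

theorem lift_mem (w : W) : lift cs n w ∈ N := S.lw_mem_N _

theorem π_lift (w : W) : π (lift cs n w) = w := by rw [lift, S.π_lw, wordProd_rword]

theorem n_sq (i : I) : n i * n i ∈ T := by
  rw [← S.π_eq_one _ (mul_mem (S.n_mem i) (S.n_mem i)), S.π_mul _ (S.n_mem i) _ (S.n_mem i), S.π_n,
    simple_mul_simple_self]

theorem conj_n_iff (i : I) (u : Y) : (n i)⁻¹ * u * n i ∈ U ↔ n i * u * (n i)⁻¹ ∈ U := by
  constructor
  · intro h
    have := S.T_norm _ (S.n_sq i) _ h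
    convert this using 1; group
  · intro h
    have := S.T_norm' (S.n_sq i) h
    convert this using 1; group

theorem dec' (i : I) {u : Y} (hu : u ∈ U) : ∃ ξ ∈ X i, n i * (u * ξ⁻¹) * (n i)⁻¹ ∈ U := by
  obtain ⟨ξ, hξ, h⟩ := S.dec i u⁻¹ (inv_mem hu)
  refine ⟨ξ⁻¹, inv_mem hξ, ?_⟩
  rw [← S.conj_n_iff]
  convert inv_mem h using 1; group

theorem dc_uniq {a b g : Y} (ha : a ∈ N) (hb : b ∈ N) (h1 : g ∈ dc U a) (h2 : g ∈ dc U b) : a = b := by
  obtain ⟨u, hu, v, hv, e⟩ := dc_trans (dc_symm h1) h2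
  exact S.uniq a ha b hb u hu v hv e

theorem dc_le {a g : Y} (ha : a ∈ N) (h : g ∈ dc U a) : g ∈ G := by
  obtain ⟨u, hu, v, hv, rfl⟩ := h
  exact mul_mem (mul_mem (S.U_le hu) (S.N_le ha)) (S.U_le hv)

theorem T_mul_dc {a g t : Y} (ht : t ∈ T) (h : g ∈ dc U a) : t * g ∈ dc U (t * a) := by
  obtain ⟨u, hu, v, hv, rfl⟩ := h
  exact ⟨t * u * t⁻¹, S.T_norm _ ht _ hu, v, hv, by group⟩

theorem dc_mul_T {a g t : Y} (ht : t ∈ T) (h : g ∈ dc U a) : g * t ∈ dc U (a * t) := by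
  obtain ⟨u, hu, v, hv, rfl⟩ := h
  exact ⟨u, hu, t⁻¹ * v * t, S.T_norm' ht hv, by group⟩

theorem mem_dc_T {t g : Y} (ht : t ∈ T) : g ∈ dc U t ↔ g * t⁻¹ ∈ U := by
  constructor
  · rintro ⟨u, hu, v, hv, rfl⟩
    convert mul_mem hu (S.T_norm _ ht _ hv) using 1; group
  · intro h
    exact ⟨_, h, 1, one_mem _, by group⟩

theorem step_up {i : I} {a g : Y} (ha : a ∈ N) (hl : cs.length (π a) < cs.length (π a * cs.simple i))
    (hg : g ∈ dc U a) : g * n i ∈ dc U (a * n i) := by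
  obtain ⟨u, hu, v, hv, rfl⟩ := hg
  obtain ⟨ζ, hζ, h⟩ := S.dec i v hv
  exact ⟨u * (a * ζ * a⁻¹), mul_mem hu (S.up i a ha hl ζ hζ), _, h, by group⟩

theorem step_down {i : I} {a g : Y} (hg : g ∈ dc U (a * n i)) :
    ∃ g' ∈ dc U a, ∃ ξ ∈ X i, g = g' * n i * ξ := by
  obtain ⟨u, hu, v, hv, rfl⟩ := hg
  obtain ⟨ξ, hξ, h⟩ := S.dec' i hv
  exact ⟨u * a * (n i * (v * ξ⁻¹) * (n i)⁻¹), ⟨u, hu, _, h, rfl⟩, ξ, hξ, by group⟩

theorem step_uniq {i : I} {a g g' ξ ξ' : Y} (ha : a ∈ N)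
    (hl : cs.length (π a) < cs.length (π a * cs.simple i))
    (hg : g ∈ dc U a) (hg' : g' ∈ dc U a) (hξ : ξ ∈ X i) (hξ' : ξ' ∈ X i)
    (e : g * n i * ξ = g' * n i * ξ') : ξ = ξ' := by
  by_contra hne
  have h1 : ξ * ξ'⁻¹ ≠ 1 := fun h => hne (mul_inv_eq_one.1 h)
  obtain ⟨x, hx, t, ht, y, hy, e2⟩ := S.rk1 i _ (mul_mem hξ (inv_mem hξ')) h1
  have h2 : g' * (n i * n i) = g * x * t * n i * y := by
    calc g' * (n i * n i) = (g' * n i * ξ') * ξ'⁻¹ * n i := by group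
      _ = g * (n i * (ξ * ξ'⁻¹) * n i) := by rw [← e]; group
      _ = _ := by rw [e2]; group
  have hat : a * t ∈ N := mul_mem ha (S.T_le ht)
  have h3 : g * x * t * n i * y ∈ dc U (a * t * n i) := by
    refine dc_mul_right (S.step_up hat ?_ (S.dc_mul_T ht (dc_mul_right hg (S.X_le i hx)))) (S.X_le i hy)
    rwa [S.π_mul_T ha ht]
  have h4 := S.dc_mul_T (S.n_sq i) hg'
  rw [h2] at h4
  have h5 := S.dc_uniq (mul_mem hat (S.n_mem i)) (mul_mem ha (S.T_le (S.n_sq i))) h3 h4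
  have h6 := congrArg π h5
  rw [S.π_mul _ hat _ (S.n_mem i), S.π_mul_T ha ht, S.π_mul_T ha (S.n_sq i), S.π_n] at h6
  rw [h6] at hl
  exact lt_irrefl _ hl

/-- Induction on the length for elements of `N`, inside a subgroup `K` containing the `n i`. -/
theorem length_induction {K : Subgroup Y} (hK : ∀ i, n i ∈ K) {P : Y → Prop}
    (h0 : ∀ t ∈ T, t ∈ K → P t)
    (hs : ∀ i, ∀ a ∈ N, a ∈ K → cs.length (π a) < cs.length (π a * cs.simple i) → P a → P (a * n i))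
    (a : Y) (ha : a ∈ N) (haK : a ∈ K) : P a := by
  induction hl : cs.length (π a) using Nat.strong_induction_on generalizing a with
  | _ k ih =>
    by_cases h1 : π a = 1
    · exact h0 a ((S.π_eq_one a ha).1 h1) haK
    · obtain ⟨i, hi⟩ := cs.exists_rightDescent_of_ne_one h1
      have hb : a * (n i)⁻¹ ∈ N := mul_mem ha (inv_mem (S.n_mem i))
      have hπ : π (a * (n i)⁻¹) = π a * cs.simple i := by
        rw [S.π_mul _ ha _ (inv_mem (S.n_mem i)), S.π_inv (S.n_mem i), S.π_n, inv_simple]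
      have hlt : cs.length (π (a * (n i)⁻¹)) < cs.length (π a) := by rw [hπ]; exact hi
      have := hs i _ hb (mul_mem haK (inv_mem (hK i)))
        (by rwa [hπ, mul_assoc, simple_mul_simple_self, mul_one, ← hπ])
        (ih _ (hl ▸ hlt) _ hb (mul_mem haK (inv_mem (hK i))) rfl)
      simpa using this

section fix

variable {σ : MulAut Y} (hU : ∀ u ∈ U, σ u ∈ U) (hN : ∀ a ∈ N, σ a ∈ N) (hT : ∀ t ∈ T, σ t ∈ T)
  (hX : ∀ i, ∀ ξ ∈ X i, σ ξ ∈ X i) (hn : ∀ i, σ (n i) = n i)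

omit S in
include hU in
theorem map_dc {a g : Y} (h : g ∈ dc U a) : σ g ∈ dc U (σ a) := by
  obtain ⟨u, hu, v, hv, rfl⟩ := h
  exact ⟨σ u, hU u hu, σ v, hU v hv, by rw [map_mul, map_mul]⟩

include hU hX hn in
theorem dc_fix {a : Y} (ha : a ∈ N) (haσ : σ a = a) {g : Y} (hg : g ∈ dc U a) (hgσ : σ g = g) :
    g ∈ dc (U ⊓ fix σ) a := by
  revert g
  refine S.length_induction (K := fix σ) (P := fun a => ∀ {g : Y}, g ∈ dc U a → σ g = g → g ∈ dc (U ⊓ fix σ) a)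
    hn ?_ ?_ a ha haσ
  · intro t ht htσ g hg hgσ
    refine ⟨g * t⁻¹, ⟨(S.mem_dc_T ht).1 hg, ?_⟩, 1, one_mem _, by group⟩
    exact (fix σ).mul_mem (show g ∈ fix σ from hgσ) ((fix σ).inv_mem htσ)
  · intro i a ha haσ hl ih g hg hgσ
    obtain ⟨g', hg', ξ, hξ, rfl⟩ := S.step_down hg
    have h1 : σ g' ∈ dc U a := by
      have := map_dc hU hg'
      rwa [mem_fix.1 haσ] at this
    rw [map_mul, map_mul, hn] at hgσ
    have h2 := S.step_uniq ha hl h1 hg' (hX i ξ hξ) hξ hgσ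
    rw [h2] at hgσ
    have h3 : σ g' = g' := mul_right_cancel (mul_right_cancel hgσ)
    obtain ⟨u, hu, v, hv, rfl⟩ := ih hg' h3
    obtain ⟨ζ, hζ, h⟩ := S.dec i v hv.1
    have h4 : σ ζ = ζ := by
      have h5 := hU _ h
      rw [map_mul, map_mul, map_mul, map_inv, map_inv, hn, mem_fix.1 hv.2] at h5
      have h6 := S.dec_uniq i _ ((X i).mul_mem ((X i).inv_mem hζ) (hX i ζ hζ)) (by
        convert U.mul_mem h (U.inv_mem h5) using 1; group)
      exact (inv_mul_eq_one.1 h6).symm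
    have hζ' : ζ ∈ fix σ := h4
    have hn' : n i ∈ fix σ := hn i
    refine ⟨u * (a * ζ * a⁻¹), mul_mem hu (mkfx (S.up i a ha hl ζ hζ) ?_),
      (n i)⁻¹ * (ζ⁻¹ * v) * n i * ξ, mul_mem (mkfx h ?_) (mkfx (S.X_le i hξ) h2), by group⟩
    · exact (fix σ).mul_mem ((fix σ).mul_mem haσ hζ') ((fix σ).inv_mem haσ)
    · exact mul_mem (mul_mem (inv_mem hn') (mul_mem (inv_mem hζ') (mfx hv))) hn'

include hU hN hT hX hn in
theorem fix : SBN cs (G ⊓ fix σ) (U ⊓ fix σ) (T ⊓ fix σ) (N ⊓ fix σ) π n (fun i => X i ⊓ fix σ) where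
  T_le := inf_le_inf_right _ S.T_le
  N_le := inf_le_inf_right _ S.N_le
  U_le := inf_le_inf_right _ S.U_le
  X_le i := inf_le_inf_right _ (S.X_le i)
  T_comm a ha b hb := S.T_comm a ha.1 b hb.1
  π_mul a ha b hb := S.π_mul a ha.1 b hb.1
  π_eq_one a ha := ⟨fun h => ⟨(S.π_eq_one a ha.1).1 h, ha.2⟩, fun h => S.π_T h.1⟩
  n_mem i := ⟨S.n_mem i, hn i⟩
  π_n := S.π_n
  T_norm t ht u hu := mkfx (S.T_norm t ht.1 u hu.1) (mul_mem (mul_mem (mfx ht) (mfx hu)) (inv_mem (mfx ht)))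
  dec i v hv := by
    obtain ⟨ζ, hζ, h⟩ := S.dec i v hv.1
    have h4 : σ ζ = ζ := by
      have h5 := hU _ h
      rw [map_mul, map_mul, map_mul, map_inv, map_inv, hn, mem_fix.1 hv.2] at h5
      have h6 := S.dec_uniq i _ ((X i).mul_mem ((X i).inv_mem hζ) (hX i ζ hζ)) (by
        convert U.mul_mem h (U.inv_mem h5) using 1; group)
      exact (inv_mul_eq_one.1 h6).symm
    have hζ' : ζ ∈ Mk.fix σ := h4
    have hn' : n i ∈ Mk.fix σ := hn i
    exact ⟨ζ, ⟨hζ, hζ'⟩, mkfx h (mul_mem (mul_mem (inv_mem hn') (mul_mem (inv_mem hζ') (mfx hv))) hn')⟩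
  dec_uniq i ξ hξ h := S.dec_uniq i ξ hξ.1 h.1
  up i a ha hl ξ hξ := mkfx (S.up i a ha.1 hl ξ hξ.1) (mul_mem (mul_mem (mfx ha) (mfx hξ)) (inv_mem (mfx ha)))
  rk1 i ξ hξ h1 := by
    obtain ⟨x, hx, t, ht, y, hy, e⟩ := S.rk1 i ξ (Subgroup.mem_inf.1 hξ).1 h1
    have e2 := congrArg σ e
    rw [map_mul, map_mul, map_mul, map_mul, map_mul, hn, mem_fix.1 hξ.2, e] at e2
    have h2 : t * n i = σ t * n i := by
      refine S.uniq _ (mul_mem (S.T_le ht) (S.n_mem i)) _ (mul_mem (S.T_le (hT t ht)) (S.n_mem i))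
        (x⁻¹ * σ x) (S.X_le i (mul_mem (inv_mem hx) (hX i x hx))) (σ y * y⁻¹)
        (S.X_le i (mul_mem (hX i y hy) (inv_mem hy))) ?_
      calc t * n i = x⁻¹ * (x * t * n i * y) * y⁻¹ := by group
        _ = _ := by rw [e2]; group
    have h3 : σ t = t := (mul_right_cancel h2).symm
    rw [h3] at e2
    have h4 : (σ x)⁻¹ * x = 1 := by
      refine S.dec_uniq i _ (mul_mem (inv_mem (hX i x hx)) hx) ?_
      have h5 := S.T_norm _ (S.conj_T' (S.n_mem i) ht) _ (S.X_le i (mul_mem (hX i y hy) (inv_mem hy)))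
      convert h5 using 1
      calc (n i)⁻¹ * ((σ x)⁻¹ * x) * n i
          = (n i)⁻¹ * (σ x)⁻¹ * (x * t * n i * y) * y⁻¹ * (n i)⁻¹ * t⁻¹ * n i := by group
        _ = _ := by rw [e2]; group
    have h5 : σ x = x := inv_mul_eq_one.1 h4
    rw [h5] at e2
    have h6 : σ y = y := (mul_left_cancel e2).symm
    exact ⟨x, ⟨hx, h5⟩, t, ⟨ht, h3⟩, y, ⟨hy, h6⟩, e⟩
  uniq a ha b hb u hu v hv e := S.uniq a ha.1 b hb.1 u hu.1 v hv.1 e
  cover g hg := by
    obtain ⟨u, hu, a, ha, v, hv, e⟩ := S.cover g hg.1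
    have h1 : g ∈ dc U a := ⟨u, hu, v, hv, e⟩
    have h2 := map_dc hU h1
    rw [mem_fix.1 hg.2] at h2
    have h3 : σ a = a := S.dc_uniq (hN a ha) ha h2 h1
    obtain ⟨u', hu', v', hv', e'⟩ := S.dc_fix hU hX hn ha h3 h1 hg.2
    exact ⟨u', hu', a, ⟨ha, h3⟩, v', hv', e'⟩

include hT hn in
/-- `σ` acts trivially on the Weyl group. -/
theorem π_map {a : Y} (ha : a ∈ N) : π (σ a) = π a := by
  have h1 := S.mem_T_of_π_eq ha (S.lift_mem (π a)) (S.π_lift _).symm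
  have h2 : σ (lift cs n (π a)) = lift cs n (π a) := lw_mem (K := Mk.fix σ) hn _
  have h3 : σ a = σ (a * (lift cs n (π a))⁻¹) * lift cs n (π a) := by
    rw [map_mul, map_inv, h2]; group
  rw [h3, S.π_T_mul (hT _ h1) (S.lift_mem _), S.π_lift]

end fix

section card

theorem card_dc {Q : ℕ} (hQ : ∀ i, Nat.card (X i) = Q) {a : Y} (ha : a ∈ N) :
    Nat.card (dc U a) = Nat.card U * Q ^ cs.length (π a) := by
  refine S.length_induction (K := ⊤) (P := fun a => Nat.card (dc U a) = Nat.card U * Q ^ cs.length (π a))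
    (fun _ => trivial) ?_ ?_ a ha trivial
  · intro t ht _
    rw [S.π_T ht, length_one, pow_zero, mul_one]
    refine Nat.card_congr ⟨fun g => ⟨g.1 * t⁻¹, (S.mem_dc_T ht).1 g.2⟩,
      fun u => ⟨u.1 * t, (S.mem_dc_T ht).2 (by simp)⟩, fun g => by simp, fun u => by simp⟩
  · intro i a ha _ hl ih
    have h1 : cs.length (π (a * n i)) = cs.length (π a) + 1 := by
      rw [S.π_mul _ ha _ (S.n_mem i), S.π_n]
      rcases cs.length_mul_simple (π a) i with h | h <;> omega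
    rw [h1, pow_succ, ← mul_assoc, ← ih, ← hQ i, ← Nat.card_prod]
    symm
    refine Nat.card_eq_of_bijective
      (fun p : dc U a × X i => (⟨p.1.1 * n i * p.2.1,
        dc_mul_right (S.step_up ha hl p.1.2) (S.X_le i p.2.2)⟩ : dc U (a * n i))) ⟨?_, ?_⟩
    · rintro ⟨⟨g, hg⟩, ⟨ξ, hξ⟩⟩ ⟨⟨g', hg'⟩, ⟨ξ', hξ'⟩⟩ e
      simp only [Subtype.mk.injEq] at e
      have h2 := S.step_uniq ha hl hg hg' hξ hξ' e
      subst h2
      have h3 : g = g' := mul_right_cancel (mul_right_cancel e)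
      subst h3
      rfl
    · rintro ⟨g, hg⟩
      obtain ⟨g', hg', ξ, hξ, rfl⟩ := S.step_down hg
      exact ⟨(⟨g', hg'⟩, ⟨ξ, hξ⟩), rfl⟩

omit S in
theorem card_dc_le [Finite U] (a : Y) : Nat.card (dc U a) ≤ Nat.card U * Nat.card U := by
  rw [← Nat.card_prod]
  refine Nat.card_le_card_of_surjective
    (fun p : U × U => (⟨p.1.1 * a * p.2.1, p.1.1, p.1.2, p.2.1, p.2.2, rfl⟩ : dc U a)) ?_
  rintro ⟨g, u, hu, v, hv, rfl⟩
  exact ⟨(⟨u, hu⟩, ⟨v, hv⟩), rfl⟩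

theorem length_le [Finite U] {Q d : ℕ} (hQ : ∀ i, Nat.card (X i) = Q) (h2 : 2 ≤ Q)
    (hU : Nat.card U = Q ^ d) (w : W) : cs.length w ≤ d := by
  have h1 := card_dc_le (U := U) (lift cs n w)
  rw [S.card_dc hQ (S.lift_mem w), S.π_lift] at h1
  have h3 := Nat.le_of_mul_le_mul_left h1 Nat.card_pos
  rw [hU] at h3
  exact (Nat.pow_le_pow_iff_right h2).1 h3

end card

end SBN

end Cfsg.Agent.DL.Mk
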