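import Cfsg.Agent.DL.Mk.Lang

/-!
# The norm map of a stable torus (project DL; helper8)
-/

set_option autoImplicit false

namespace Cfsg.Agent.DL.Mk

variable {Y : Type*} [Group Y]

/-- the norm `t F(t) ⋯ F^(k-1)(t)` -/
def nrm (F : MulAut Y) (k : ℕ) (t : Y) : Y := ((List.range k).map fun i => (F ^ i) t).prod

theorem nrm_zero (F : MulAut Y) (t : Y) : nrm F 0 t = 1 := rfl

theorem nrm_succ (F : MulAut Y) (k : ℕ) (t : Y) : nrm F (k + 1) t = nrm F k t * (F ^ k) t := by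
  simp [nrm, List.range_succ]

theorem pow_succ_apply (F : MulAut Y) (k : ℕ) (t : Y) : (F ^ (k + 1)) t = F ((F ^ k) t) := by
  rw [pow_succ', MulAut.mul_apply]

theorem pow_comm_apply (F : MulAut Y) (k : ℕ) (t : Y) : (F ^ k) (F t) = F ((F ^ k) t) := by
  rw [← MulAut.mul_apply, ← pow_succ, pow_succ_apply]

theorem pow_pow_comm_apply (F : MulAut Y) (k l : ℕ) (t : Y) : ((F ^ k) ^ l) (F t) = F (((F ^ k) ^ l) t) := by
  rw [← pow_mul, pow_comm_apply]

theorem pow_fix {F : MulAut Y} {t : Y} (h : F t = t) (k : ℕ) : (F ^ k) t = t := by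
  induction k with
  | zero => rfl
  | succ k ih => rw [pow_succ_apply, ih, h]

theorem pow_maps {F : MulAut Y} {K : Subgroup Y} (h : ∀ t ∈ K, F t ∈ K) (k : ℕ) {t : Y} (ht : t ∈ K) :
    (F ^ k) t ∈ K := by
  induction k with
  | zero => exact ht
  | succ k ih => rw [pow_succ_apply]; exact h _ ih

theorem nrm_lang (F : MulAut Y) (k : ℕ) (b : Y) : nrm F k (b * (F b)⁻¹) = b * ((F ^ k) b)⁻¹ := by
  induction k with
  | zero => simp [nrm_zero]
  | succ k ih => rw [nrm_succ, ih, map_mul, map_inv, pow_comm_apply, pow_succ_apply]; group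

theorem nrm_add (F : MulAut Y) (k l : ℕ) (t : Y) : nrm F (k + l) t = nrm F k t * (F ^ k) (nrm F l t) := by
  induction l with
  | zero => simp [nrm_zero]
  | succ l ih => rw [← add_assoc, nrm_succ, ih, nrm_succ, map_mul, pow_add, MulAut.mul_apply, mul_assoc]

theorem nrm_mul_F (F : MulAut Y) (k : ℕ) (t : Y) : t * F (nrm F k t) = nrm F k t * (F ^ k) t := by
  rw [← nrm_succ, add_comm, nrm_add, nrm_succ, nrm_zero, pow_one]; simp

theorem nrm_conj {F : MulAut Y} {h : Y} (hh : F h = h) (k : ℕ) (t : Y) :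
    nrm F k (h⁻¹ * t * h) = h⁻¹ * nrm F k t * h := by
  induction k with
  | zero => simp [nrm_zero]
  | succ k ih => rw [nrm_succ, nrm_succ, ih, map_mul, map_mul, map_inv, pow_fix hh]; group

theorem nrm_one (F : MulAut Y) (k : ℕ) : nrm F k 1 = 1 := by
  induction k with
  | zero => rfl
  | succ k ih => rw [nrm_succ, ih, map_one, mul_one]

/-- `1 + Q + ⋯ + Q ^ (m - 1)` -/
def gs (Q m : ℕ) : ℕ := ∑ j ∈ Finset.range m, Q ^ j

theorem gs_succ (Q m : ℕ) : gs Q (m + 1) = gs Q m + Q ^ m := Finset.sum_range_succ _ _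

theorem gs_ne_zero {Q m : ℕ} (hQ : 2 ≤ Q) (hm : 0 < m) : gs Q m ≠ 0 := by
  obtain ⟨m, rfl⟩ := Nat.exists_eq_succ_of_ne_zero hm.ne'
  rw [gs_succ]
  have : 0 < Q ^ m := by positivity
  omega

theorem gs_mul (Q m : ℕ) : gs Q m * Q + 1 = gs Q m + Q ^ m := by
  induction m with
  | zero => simp [gs]
  | succ m ih => rw [gs_succ, pow_succ, add_mul]; omega

theorem pow_gs_of_fix {A : Type*} [Monoid A] {Q : ℕ} {t : A} (h : t ^ Q = t) (m : ℕ) : t ^ gs Q m = t ^ m := by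
  have h1 : ∀ j, t ^ Q ^ j = t := by
    intro j
    induction j with
    | zero => simp
    | succ j ih => rw [pow_succ, pow_mul, ih, h]
  induction m with
  | zero => simp [gs]
  | succ m ih => rw [gs_succ, pow_add, ih, h1, pow_succ]

theorem pow_gs_iff {A : Type*} [Group A] {Q m : ℕ} {t : A} : (t ^ gs Q m) ^ Q = t ^ gs Q m ↔ t ^ Q ^ m = t := by
  have h1 : (t ^ gs Q m) ^ Q * t = t ^ gs Q m * t ^ Q ^ m := by
    rw [← pow_mul, ← pow_succ, gs_mul, pow_add]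
  constructor
  · intro h
    rw [h] at h1
    exact (mul_left_cancel h1).symm
  · intro h
    rw [h] at h1
    exact mul_right_cancel h1

/-- A torus on which `F ^ M` is the `Q`-th power map. -/
structure Tor (F : MulAut Y) (M Q : ℕ) (T : Subgroup Y) : Prop where
  two_le : 2 ≤ Q
  comm : ∀ a ∈ T, ∀ b ∈ T, a * b = b * a
  maps : ∀ t ∈ T, F t ∈ T
  frob : ∀ t ∈ T, (F ^ M) t = t ^ Q
  div : ∀ t ∈ T, ∀ s : ℕ, s ≠ 0 → ∃ r ∈ T, r ^ s = t

theorem frob_pow {σ : MulAut Y} {Q : ℕ} {T : Subgroup Y} (h : ∀ t ∈ T, σ t = t ^ Q) (m : ℕ) {t : Y} (ht : t ∈ T) :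
    (σ ^ m) t = t ^ Q ^ m := by
  induction m with
  | zero => simp
  | succ m ih => rw [pow_succ_apply, ih, map_pow, h t ht, ← pow_mul, ← pow_succ']

namespace Tor

variable {F : MulAut Y} {M Q : ℕ} {T : Subgroup Y} (A : Tor F M Q T)

include A

theorem nrm_mem (k : ℕ) {t : Y} (ht : t ∈ T) : nrm F k t ∈ T := by
  induction k with
  | zero => exact one_mem _
  | succ k ih => rw [nrm_succ]; exact mul_mem ih (pow_maps A.maps k ht)

theorem nrm_mul (k : ℕ) {a b : Y} (ha : a ∈ T) (hb : b ∈ T) : nrm F k (a * b) = nrm F k a * nrm F k b := by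
  induction k with
  | zero => simp [nrm_zero]
  | succ k ih =>
    rw [nrm_succ, nrm_succ, nrm_succ, ih, map_mul, mul_assoc, mul_assoc, ← mul_assoc (nrm F k b),
      ← mul_assoc ((F ^ k) a), A.comm _ (A.nrm_mem k hb) _ (pow_maps A.maps k ha)]

theorem nrm_pow (k : ℕ) {a : Y} (ha : a ∈ T) (s : ℕ) : nrm F k (a ^ s) = nrm F k a ^ s := by
  induction s with
  | zero => simp [nrm_one]
  | succ s ih => rw [pow_succ, A.nrm_mul k (pow_mem ha s) ha, ih, pow_succ]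

theorem nrm_fix (k : ℕ) {t : Y} (ht : t ∈ T) (h : (F ^ k) t = t) : F (nrm F k t) = nrm F k t := by
  have h1 := nrm_mul_F F k t
  rw [h, A.comm _ (A.nrm_mem k ht) _ ht] at h1
  exact mul_left_cancel h1

theorem nrm_level (m : ℕ) {t : Y} (ht : t ∈ T) : nrm F (M * m) t = nrm F M (t ^ gs Q m) := by
  induction m with
  | zero => simp [gs, nrm_zero, nrm_one]
  | succ m ih =>
    rw [Nat.mul_succ, nrm_add, ih, pow_mul, frob_pow A.frob m (A.nrm_mem M ht), gs_succ, pow_add,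
      A.nrm_mul M (pow_mem ht _) (pow_mem ht _), A.nrm_pow M ht (Q ^ m)]

theorem lang_pow {m : ℕ} (hm : 0 < m) {t : Y} (ht : t ∈ T) : ∃ b ∈ T, t = b * (((F ^ M) ^ m) b)⁻¹ := by
  have h1 : 1 < Q ^ m := Nat.one_lt_pow hm.ne' A.two_le
  obtain ⟨r, hr, e⟩ := A.div _ (inv_mem ht) (Q ^ m - 1) (by omega)
  refine ⟨r, hr, ?_⟩
  rw [frob_pow A.frob m hr, ← Nat.sub_add_cancel h1.le, pow_succ, e]; group

theorem lang {t : Y} (ht : t ∈ T) : ∃ b ∈ T, t = b * (F b)⁻¹ := by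
  obtain ⟨b, hb, e⟩ := A.lang_pow one_pos ht
  refine ⟨nrm F M b, A.nrm_mem M hb, ?_⟩
  have h1 := nrm_mul_F F M b
  rw [pow_one] at e
  rw [e, eq_mul_inv_iff_mul_eq, mul_assoc, A.comm _ (inv_mem (pow_maps A.maps M hb)) _ (A.maps _ (A.nrm_mem M hb)),
    ← mul_assoc, h1, mul_inv_cancel_right]

theorem nrm_surj {m : ℕ} (hm : 0 < m) {t : Y} (ht : t ∈ T) (hF : F t = t) :
    ∃ a ∈ T, ((F ^ M) ^ m) a = a ∧ nrm F (M * m) a = t := by
  obtain ⟨b, hb, e⟩ := A.lang_pow hm ht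
  refine ⟨b * (F b)⁻¹, mul_mem hb (inv_mem (A.maps b hb)), ?_, by rw [nrm_lang, pow_mul, ← e]⟩
  have h1 : ((F ^ M) ^ m) b = t⁻¹ * b := by rw [e]; group
  rw [map_mul, map_inv, pow_pow_comm_apply, h1, map_mul, map_inv, hF,
    A.comm _ (inv_mem ht) _ hb, A.comm _ (inv_mem ht) _ (A.maps b hb), mul_inv_rev, inv_inv]
  group

end Tor

end Cfsg.Agent.DL.Mk
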