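import Cfsg.Agent.DL.Datum
import Cfsg.Agent.DL.CF.Count
import Cfsg.Agent.DL.Uni.Sys

/-!
# The statement of the Mackey count (project DL; helper8)
-/

set_option autoImplicit false

namespace Cfsg.Agent.DL.Mk

open Cfsg.Agent.Nodes.Reps

/-- `∑_g (∑_t N₁(g,t) θ₁ t) (∑_t N₂(g,t) θ₂ t)` at the level `σ`; `H = G^F`, `K₁ = T₁^F`, `K₂ = T₂^F`. -/
noncomputable def mkSum {Y : Type*} [Group Y] (F σ : MulAut Y) (G H K₁ K₂ : Subgroup Y) (V₁ V₂ : Set Y)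
    (θ₁ θ₂ : Y → ℂ) : ℂ :=
  ∑ᶠ g : H, (∑ᶠ t : K₁, (CF.cnt F.toMonoidHom σ.toMonoidHom G V₁ g t : ℂ) * θ₁ t) *
    (∑ᶠ t : K₂, (CF.cnt F.toMonoidHom σ.toMonoidHom G V₂ g t : ℂ) * θ₂ t)

/-- The Mackey count for two pairs `(z T z⁻¹, z U z⁻¹)` with `F`-stable tori. -/
def Mackey : Prop :=
  ∀ (p : ℕ) [Fact p.Prime] (k : Type) [Field k] [CharP k p] [IsAlgClosed k] (Y : Type) [Group Y] (N : Type)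
    [Fintype N] [DecidableEq N] (ρ : Y →* GL N k) (F : MulAut Y) (G : Subgroup Y) (D : Datum p ρ F G)
    (z₁ z₂ : Y), z₁ ∈ G → z₂ ∈ G → (cj z₁ D.T).map F.toMonoidHom = cj z₁ D.T →
    (cj z₂ D.T).map F.toMonoidHom = cj z₂ D.T → ∀ θ₁ θ₂ : Y → ℂ,
    Uni.IsLin (cj z₁ D.T ⊓ GF F G) θ₁ → Uni.IsLin (cj z₂ D.T ⊓ GF F G) θ₂ →
    ∃ d e : ℕ, 0 < d ∧ 0 < e ∧ ∃ (P : Polynomial ℤ) (L : ℕ),
      (∀ m, 0 < m → (((p : ℂ) ^ e) ^ m) ^ L * mkSum F ((F ^ d) ^ m) G (GF F G) (cj z₁ D.T ⊓ GF F G)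
          (cj z₂ D.T ⊓ GF F G) (cj z₁ D.U) (cj z₂ D.U) θ₁ θ₂ =
        (Nat.card (GF F G) : ℂ) * Nat.card ↥(cj z₁ D.T ⊓ GF F G) * Nat.card ↥(cj z₂ D.T ⊓ GF F G) *
          Polynomial.aeval (((p : ℂ) ^ e) ^ m) P) ∧
      P.eval 1 * Nat.card ↥(cj z₁ D.T ⊓ GF F G) =
        Nat.card {h : GF F G // cj (h : Y) (cj z₁ D.T) = cj z₂ D.T ∧
          ∀ t ∈ cj z₁ D.T ⊓ GF F G, θ₁ t * θ₂ (h * t * (h : Y)⁻¹) = 1}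

end Cfsg.Agent.DL.Mk
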