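import Cfsg.Agent.DL.Mk.Tor

/-!
# Frames and admissible characters at all levels (project DL; helper8)
-/

set_option autoImplicit false

namespace Cfsg.Agent.DL.Mk

open CoxeterSystem

variable {I W Y k : Type*} [Group W] [Group Y] [Field k] {M : CoxeterMatrix I}

/-- The hypotheses of the Mackey count. -/
structure Frame (cs : CoxeterSystem M W) (G U T N : Subgroup Y) (π : Y → W) (n : I → Y) (X : I → Subgroup Y)
    (F : MulAut Y) (e Q d : ℕ) (n₀ : Y) (x : I → k → Y) (a : I → kˣ →* Y) : Prop where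
  sbn : SBN cs G U T N π n X
  tor : Tor F e Q T
  FG : ∀ g, F g ∈ G ↔ g ∈ G
  FT : ∀ t, F t ∈ T ↔ t ∈ T
  FN : ∀ m ∈ N, F m ∈ N
  n₀_mem : n₀ ∈ N
  FU : ∀ u ∈ U, n₀⁻¹ * F u * n₀ ∈ U
  σn : ∀ i, (F ^ e) (n i) = n i
  σn₀ : (F ^ e) n₀ = n₀
  σU : ∀ u ∈ U, (F ^ e) u ∈ U
  σx : ∀ i c, (F ^ e) (x i c) = x i (c ^ Q)
  mem_X : ∀ i y, y ∈ X i ↔ ∃ c, x i c = y
  x_inj : ∀ i, Function.Injective (x i)
  x_zero : ∀ i, x i 0 = 1
  a_mem : ∀ i c, a i c ∈ T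
  act : ∀ i (c : kˣ), ∃ s ∈ T, s * x i 1 * s⁻¹ = x i c ∧ n i * s * (n i)⁻¹ = s * a i c
  lang : ∀ g ∈ G, ∃ c ∈ G, g = c⁻¹ * F c
  norm : ∀ g ∈ G, (∀ t ∈ T, g * t * g⁻¹ ∈ T) → g ∈ N
  fin : ∀ m, 0 < m → Finite ↥(G ⊓ fix ((F ^ e) ^ m))
  cardU : ∀ m, 0 < m → Nat.card ↥(U ⊓ fix ((F ^ e) ^ m)) = (Q ^ m) ^ d
  cardk : ∀ m, 0 < m → Nat.card {c : k // c ^ Q ^ m = c} = Q ^ m
  root : ∀ (c : kˣ) (s : ℕ), s ≠ 0 → ∃ r : kˣ, r ^ s = c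

/-- the units fixed by a power map -/
def ufix (k : Type*) [Field k] (q : ℕ) : Subgroup kˣ where
  carrier := {c | c ^ q = c}
  mul_mem' := fun {a b} (ha : a ^ q = a) (hb : b ^ q = b) => by
    show (a * b) ^ q = a * b
    rw [mul_pow, ha, hb]
  one_mem' := one_pow q
  inv_mem' := fun {a} (ha : a ^ q = a) => by
    show a⁻¹ ^ q = a⁻¹
    rw [inv_pow, ha]

theorem fix_le_pow (σ : MulAut Y) (m : ℕ) : fix σ ≤ fix (σ ^ m) := fun _ h => pow_fix h m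

open Classical in
/-- the torus part of `n ξ n` -/
noncomputable def hh (x : I → k → Y) (a : I → kˣ →* Y) (tt : I → Y) (i : I) (ξ : Y) : Y :=
  if h : ∃ c : kˣ, x i c = ξ then a i h.choose * tt i else 1

/-- triviality on the rational points of a coroot -/
def epsOf (cs : CoxeterSystem M W) (n : I → Y) (a : I → kˣ →* Y) (Q : ℕ) (lam : Y → ℂ) (w : W) (i : I) : Prop :=
  ∀ c : kˣ, c ^ Q = c → lam (lift cs n w * a i c * (lift cs n w)⁻¹) = 1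

namespace Frame

variable {cs : CoxeterSystem M W} {G U T N : Subgroup Y} {π : Y → W} {n : I → Y} {X : I → Subgroup Y}
  {F : MulAut Y} {e Q d : ℕ} {n₀ : Y} {x : I → k → Y} {a : I → kˣ →* Y}
  (A : Frame cs G U T N π n X F e Q d n₀ x a)

include A

theorem σx_pow (m : ℕ) (i : I) (c : k) : ((F ^ e) ^ m) (x i c) = x i (c ^ Q ^ m) := by
  induction m with
  | zero => simp
  | succ m ih => rw [pow_succ_apply, ih, A.σx, ← pow_mul, ← pow_succ]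

theorem level (m : ℕ) : SBN cs (G ⊓ fix ((F ^ e) ^ m)) (U ⊓ fix ((F ^ e) ^ m)) (T ⊓ fix ((F ^ e) ^ m))
    (N ⊓ fix ((F ^ e) ^ m)) π n (fun i => X i ⊓ fix ((F ^ e) ^ m)) := by
  refine A.sbn.fix (fun u hu => pow_maps A.σU m hu) (fun u hu => pow_maps (fun _ h => pow_maps A.FN e h) m hu)
    (fun u hu => pow_maps (fun _ h => pow_maps A.tor.maps e h) m hu) (fun i ξ hξ => ?_) fun i => pow_fix (A.σn i) m
  obtain ⟨c, rfl⟩ := (A.mem_X i ξ).1 hξ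
  rw [A.σx_pow]
  exact (A.mem_X i _).2 ⟨_, rfl⟩

theorem mem_T_level {m : ℕ} {t : Y} (ht : t ∈ T) : t ∈ T ⊓ fix ((F ^ e) ^ m) ↔ t ^ Q ^ m = t := by
  rw [Subgroup.mem_inf, mem_fix, frob_pow A.tor.frob m ht, and_iff_right ht]

theorem mem_T_one {t : Y} (ht : t ∈ T) : t ∈ T ⊓ fix (F ^ e) ↔ t ^ Q = t := by
  rw [Subgroup.mem_inf, mem_fix, A.tor.frob t ht, and_iff_right ht]

theorem pow_gs_mem {m : ℕ} {t : Y} (ht : t ∈ T ⊓ fix ((F ^ e) ^ m)) : t ^ gs Q m ∈ T ⊓ fix (F ^ e) :=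
  (A.mem_T_one (pow_mem ht.1 _)).2 (pow_gs_iff.2 ((A.mem_T_level ht.1).1 ht))

theorem exists_pow_gs {m : ℕ} (hm : 0 < m) {t : Y} (ht : t ∈ T ⊓ fix (F ^ e)) :
    ∃ r ∈ T ⊓ fix ((F ^ e) ^ m), r ^ gs Q m = t := by
  obtain ⟨r, hr, h⟩ := A.tor.div t ht.1 _ (gs_ne_zero A.tor.two_le hm)
  refine ⟨r, (A.mem_T_level hr).2 (pow_gs_iff.1 ?_), h⟩
  rw [h]; exact (A.mem_T_one ht.1).1 ht

theorem x_ne_one (i : I) (c : kˣ) : x i c ≠ 1 := fun h =>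
  c.ne_zero (A.x_inj i (h.trans (A.x_zero i).symm))

theorem exists_tt : ∃ tt : I → Y, (∀ i, tt i ∈ T ⊓ fix (F ^ e)) ∧
    ∀ i (c : kˣ), n i * x i c * n i ∈ dc U (a i c * tt i * n i) := by
  have h1 : ∀ i, ∃ t ∈ T ⊓ fix (F ^ e), n i * x i 1 * n i ∈ dc U (t * n i) := by
    intro i
    obtain ⟨u, hu, t, ht, v, hv, h⟩ := (A.level 1).rk1 i (x i 1)
      (mkfx ((A.mem_X i _).2 ⟨_, rfl⟩) (by rw [mem_fix, A.σx_pow, one_pow])) (A.x_ne_one i 1)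
    rw [pow_one] at ht
    exact ⟨t, ht, u, A.sbn.X_le i hu.1, v, A.sbn.X_le i hv.1, by rw [h]; group⟩
  choose tt h2 h3 using h1
  refine ⟨tt, h2, fun i c => ?_⟩
  obtain ⟨s, hs, e1, e2⟩ := A.act i c
  have h4 := A.sbn.dc_mul_T (A.sbn.conj_T' (A.sbn.n_mem i) (inv_mem hs))
    (A.sbn.T_mul_dc (mul_mem hs (A.a_mem i c)) (h3 i))
  have h5 : s * a i c * (n i * x i 1 * n i) * ((n i)⁻¹ * s⁻¹ * n i) = n i * x i c * n i := by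
    rw [← e1, ← e2]; group
  have h6 : s * a i c * (tt i * n i) * ((n i)⁻¹ * s⁻¹ * n i) = a i c * tt i * n i := by
    calc _ = s * (a i c * tt i) * s⁻¹ * n i := by group
      _ = _ := by rw [A.sbn.T_comm s hs _ (mul_mem (A.a_mem i c) (h2 i).1)]; group
  rwa [h5, h6] at h4

theorem hh_x (tt : I → Y) (i : I) (c : kˣ) : hh x a tt i (x i c) = a i c * tt i := by
  have h : ∃ c' : kˣ, x i c' = x i c := ⟨c, rfl⟩
  rw [hh, dif_pos h, Units.ext (A.x_inj i h.choose_spec)]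

theorem exists_unit {m : ℕ} {i : I} {ξ : Y} (hξ : ξ ∈ X i ⊓ fix ((F ^ e) ^ m)) (h1 : ξ ≠ 1) :
    ∃ c ∈ ufix k (Q ^ m), x i (c : kˣ) = ξ := by
  obtain ⟨c, rfl⟩ := (A.mem_X i ξ).1 hξ.1
  have h0 : c ≠ 0 := by
    rintro rfl
    exact h1 (A.x_zero i)
  have h2 := mem_fix.1 (mfx hξ)
  rw [A.σx_pow] at h2
  exact ⟨Units.mk0 c h0, Units.ext (by simpa using A.x_inj i h2), rfl⟩

theorem x_mem_level {m : ℕ} (i : I) {c : kˣ} (hc : c ∈ ufix k (Q ^ m)) : x i c ∈ X i ⊓ fix ((F ^ e) ^ m) := by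
  refine mkfx ((A.mem_X i _).2 ⟨_, rfl⟩) ?_
  have h : c ^ Q ^ m = c := hc
  rw [mem_fix, A.σx_pow, ← Units.val_pow_eq_pow_val, h]

theorem a_mem_level {m : ℕ} (i : I) {c : kˣ} (hc : c ∈ ufix k (Q ^ m)) : a i c ∈ T ⊓ fix ((F ^ e) ^ m) := by
  have h : c ^ Q ^ m = c := hc
  rw [A.mem_T_level (A.a_mem i c), ← map_pow, h]

theorem card_X {m : ℕ} (hm : 0 < m) (i : I) : Nat.card ↥(X i ⊓ fix ((F ^ e) ^ m)) = Q ^ m := by
  rw [← A.cardk m hm]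
  symm
  refine Nat.card_eq_of_bijective (fun c => ⟨x i c.1, mkfx ((A.mem_X i _).2 ⟨_, rfl⟩) (by
    rw [mem_fix, A.σx_pow, c.2])⟩) ⟨fun c c' h => Subtype.ext (A.x_inj i (congrArg Subtype.val h)), ?_⟩
  rintro ⟨ξ, hξ⟩
  obtain ⟨c, rfl⟩ := (A.mem_X i ξ).1 hξ.1
  have h2 := mem_fix.1 (mfx hξ)
  rw [A.σx_pow] at h2
  exact ⟨⟨c, A.x_inj i h2⟩, rfl⟩

theorem hrk {tt : I → Y} (h1 : ∀ i, tt i ∈ T ⊓ fix (F ^ e))
    (h2 : ∀ i (c : kˣ), n i * x i c * n i ∈ dc U (a i c * tt i * n i)) (m : ℕ) (i : I) :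
    ∀ ξ ∈ X i ⊓ fix ((F ^ e) ^ m), ξ ≠ 1 → hh x a tt i ξ ∈ T ⊓ fix ((F ^ e) ^ m) ∧
      n i * ξ * n i ∈ dc (U ⊓ fix ((F ^ e) ^ m)) (hh x a tt i ξ * n i) := by
  intro ξ hξ h3
  obtain ⟨c, hc, rfl⟩ := A.exists_unit hξ h3
  have h4 : a i c * tt i ∈ T ⊓ fix ((F ^ e) ^ m) :=
    mul_mem (A.a_mem_level i hc) (mkfx (h1 i).1 (fix_le_pow _ m (mfx (h1 i))))
  have hn : n i ∈ fix ((F ^ e) ^ m) := pow_fix (A.σn i) m
  rw [A.hh_x]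
  refine ⟨h4, A.sbn.dc_fix (fun u hu => pow_maps A.σU m hu) (fun j ξ hξ => ?_) (fun j => pow_fix (A.σn j) m)
    (mul_mem (A.sbn.T_le h4.1) (A.sbn.n_mem i)) (mul_mem (mfx h4) hn) (h2 i c) (mul_mem (mul_mem hn (mfx hξ)) hn)⟩
  obtain ⟨c, rfl⟩ := (A.mem_X j ξ).1 hξ
  rw [A.σx_pow]
  exact (A.mem_X j _).2 ⟨_, rfl⟩

open Classical in
theorem sum_X {m : ℕ} (i : I) [Fintype ↥(X i ⊓ fix ((F ^ e) ^ m))] [Fintype (ufix k (Q ^ m))] (f : Y → ℂ) :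
    ∑ ξ : ↥(X i ⊓ fix ((F ^ e) ^ m)), (if (ξ : Y) = 1 then 0 else f ξ) = ∑ c : ufix k (Q ^ m), f (x i (c : kˣ)) := by
  symm
  refine Finset.sum_of_injOn (fun c : ufix k (Q ^ m) => (⟨x i (c : kˣ), A.x_mem_level i c.2⟩ : ↥(X i ⊓ fix _)))
    (fun c _ c' _ h => Subtype.ext (Units.ext (A.x_inj i (congrArg Subtype.val h)))) (fun _ _ => Finset.mem_univ _)
    (fun ξ _ h => ?_) fun c _ => ?_
  · by_cases h1 : (ξ : Y) = 1
    · exact if_pos h1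
    · obtain ⟨c, hc, e1⟩ := A.exists_unit ξ.2 h1
      exact absurd ⟨⟨c, hc⟩, Finset.mem_coe.2 (Finset.mem_univ _), Subtype.ext e1⟩ h
  · exact (if_neg (A.x_ne_one i c)).symm

theorem adm {tt : I → Y} (h1 : ∀ i, tt i ∈ T ⊓ fix (F ^ e)) {m : ℕ} (hm : 0 < m)
    (hd : Nat.card ↥(T ⊓ fix (F ^ e)) ∣ m) [∀ i, Fintype ↥(X i ⊓ fix ((F ^ e) ^ m))] {lam Λ : Y → ℂ}
    (hlam : Lin (T ⊓ fix (F ^ e)) lam) (hΛ : ∀ t ∈ T ⊓ fix ((F ^ e) ^ m), Λ t = lam (t ^ gs Q m)) :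
    Adm (T ⊓ fix ((F ^ e) ^ m)) (N ⊓ fix (F ^ e)) π (fun i => X i ⊓ fix ((F ^ e) ^ m)) (hh x a tt) (Q ^ m) Λ
      (epsOf cs n a Q lam) := by
  classical
  have hpow : ∀ t ∈ T ⊓ fix (F ^ e), t ^ gs Q m = 1 := by
    intro t ht
    obtain ⟨r, rfl⟩ := hd
    rw [pow_gs_of_fix ((A.mem_T_one ht.1).1 ht), pow_mul]
    have h2 : t ^ Nat.card ↥(T ⊓ fix (F ^ e)) = 1 :=
      congrArg Subtype.val (pow_card_eq_one' (x := (⟨t, ht⟩ : ↥(T ⊓ fix (F ^ e)))))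
    rw [h2, one_pow]
  have hcomm : ∀ s ∈ T, ∀ t ∈ T, (s * t) ^ gs Q m = s ^ gs Q m * t ^ gs Q m := fun s hs t ht =>
    Commute.mul_pow (A.sbn.T_comm s hs t ht) _
  refine ⟨⟨by rw [hΛ _ (one_mem _), one_pow, hlam.one], fun s hs t ht => ?_⟩, fun t ht ht' => ?_, fun i b hb => ?_⟩
  · rw [hΛ _ (mul_mem hs ht), hΛ _ hs, hΛ _ ht, hcomm s hs.1 t ht.1, hlam.mul _ (A.pow_gs_mem hs) _ (A.pow_gs_mem ht)]
  · rw [hΛ _ ht, hpow t (mkfx ht.1 (mfx ht')), hlam.one]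
  · have hfin : Finite (ufix k (Q ^ m)) := Finite.of_injective
      (fun c : ufix k (Q ^ m) => (⟨x i (c : kˣ), A.x_mem_level i c.2⟩ : ↥(X i ⊓ fix ((F ^ e) ^ m))))
      fun c c' h => Subtype.ext (Units.ext (A.x_inj i (congrArg Subtype.val h)))
    have := Fintype.ofFinite (ufix k (Q ^ m))
    have hcard : (Fintype.card (ufix k (Q ^ m)) : ℂ) = ((Q ^ m : ℕ) : ℂ) - 1 := by
      have h2 := A.sum_X (m := m) i fun _ => 1
      rw [Finset.sum_const, Finset.card_univ, nsmul_eq_mul, mul_one] at h2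
      rw [← h2, ← A.card_X hm i, Nat.card_eq_fintype_card, eq_sub_iff_add_eq]
      have h3 : ∑ ξ : ↥(X i ⊓ fix ((F ^ e) ^ m)), (if (ξ : Y) = 1 then (1 : ℂ) else 0) = 1 := by
        rw [Finset.sum_eq_single (1 : ↥(X i ⊓ fix ((F ^ e) ^ m)))]
        · simp
        · intro ξ _ hξ
          exact if_neg fun h => hξ (Subtype.ext h)
        · simp
      conv_lhs => rw [← h3]
      rw [h3, ← h3, ← Finset.sum_add_distrib, h3, Finset.sum_congr rfl (g := fun _ => (1 : ℂ))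
        fun ξ _ => by split_ifs <;> simp]
      simp
    have hb' : ∀ t ∈ T ⊓ fix (F ^ e), b * t * b⁻¹ ∈ T ⊓ fix (F ^ e) := fun t ht =>
      mkfx (A.sbn.conj_T hb.1 ht.1) (mul_mem (mul_mem (mfx hb) (mfx ht)) (inv_mem (mfx hb)))
    have hbm : ∀ t ∈ T ⊓ fix ((F ^ e) ^ m), b * t * b⁻¹ ∈ T ⊓ fix ((F ^ e) ^ m) := fun t ht =>
      mkfx (A.sbn.conj_T hb.1 ht.1)
        (mul_mem (mul_mem (fix_le_pow _ m (mfx hb)) (mfx ht)) (inv_mem (fix_le_pow _ m (mfx hb))))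
    have hval : ∀ c ∈ ufix k (Q ^ m), Λ (b * hh x a tt i (x i (c : kˣ)) * b⁻¹) =
        lam (b * a i (c ^ gs Q m) * b⁻¹) := by
      intro c hc
      rw [A.hh_x, hΛ _ (hbm _ (mul_mem (A.a_mem_level i hc) (mkfx (h1 i).1 (fix_le_pow _ m (mfx (h1 i)))))),
        conj_pow, hcomm _ (A.a_mem i c) _ (h1 i).1, hpow _ (h1 i), mul_one, map_pow]
    have hmem : ∀ c ∈ ufix k (Q ^ m), b * a i (c ^ gs Q m) * b⁻¹ ∈ T ⊓ fix (F ^ e) := fun c hc =>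
      hb' _ (by rw [map_pow]; exact A.pow_gs_mem (A.a_mem_level i hc))
    have hlin : Lin (ufix k (Q ^ m)) fun c => lam (b * a i (c ^ gs Q m) * b⁻¹) := by
      refine ⟨by simp [hlam.one], fun c hc c' hc' => ?_⟩
      rw [← hlam.mul _ (hmem c hc) _ (hmem c' hc'), mul_pow, map_mul]
      congr 1; group
    rw [A.sum_X (m := m) i fun ξ => Λ (b * hh x a tt i ξ * b⁻¹), Finset.sum_congr rfl fun (c : ufix k (Q ^ m)) _ => hval c c.2,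
      hlin.sum, hcard]
    refine if_congr ?_ rfl rfl
    have hc : ∀ c : kˣ, b * a i c * b⁻¹ = lift cs n (π b) * a i c * (lift cs n (π b))⁻¹ := fun c =>
      A.sbn.conj_T_eq hb.1 (A.sbn.lift_mem _) (A.sbn.π_lift _).symm (A.a_mem i c)
    constructor
    · intro h c hcQ
      obtain ⟨r, rfl⟩ := A.root c _ (gs_ne_zero A.tor.two_le hm)
      rw [← hc]
      exact h r (pow_gs_iff.1 hcQ)
    · intro h c hcQ
      rw [hc]
      exact h _ (pow_gs_iff.2 hcQ)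

end Frame

end Cfsg.Agent.DL.Mk
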