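import Cfsg.Agent.DL.Mk.Hecke

/-!
# The Mackey count at a finite level (project DL; helper8)

The sum `∑ h c, f₁ (c x) f₂ (φ(h)⁻¹ c h x')` over a finite group with a split `(B,N)`-pair is `|T|²` times the value at `Q`
of a generic Laurent polynomial.
-/

set_option autoImplicit false

namespace Cfsg.Agent.DL.Mk

open CoxeterSystem

variable {I W Y : Type*} [Group W] [Group Y] {M : CoxeterMatrix I}

section generic

variable {R R' : Type*} [CommRing R] [CommRing R'] (cs : CoxeterSystem M W) [Fintype W]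
  (ε₁ ε₂ ε₃ : W → I → Prop) (good : W → Prop) (ψ : W → W) (x x' : W) (d : ℕ)

open Classical in
/-- the delta function at the identity -/
noncomputable def dl1 (R : Type*) [CommRing R] {W : Type*} [Group W] (w : W) : R := if w = 1 then 1 else 0

/-- a bound for the lengths -/
noncomputable def bnd : ℕ := ∑ v : W, cs.length (ψ v)⁻¹

theorem le_bnd (v : W) : cs.length (ψ v)⁻¹ ≤ bnd cs ψ :=
  Finset.single_le_sum (f := fun v => cs.length (ψ v)⁻¹) (fun _ _ => Nat.zero_le _) (Finset.mem_univ v)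

open Classical in
/-- the generic value of the Mackey count -/
noncomputable def Egen (q : R) : R :=
  ∑ v : W, ∑ w : W, if good w then
    q ^ (2 * d + (bnd cs ψ - cs.length (ψ v)⁻¹) + cs.length w) *
      (Rw cs ε₃ q (rword cs (ψ v)⁻¹) (fun z => Rw cs ε₁ q (rword cs x) (dl1 R) z⁻¹) w⁻¹ *
        Rw cs ε₂ q (rword cs v) (Rw cs ε₂ q (rword cs x') (dl1 R)) w) else 0

omit [Fintype W] in
theorem map_dl1 (f : R →+* R') (w : W) : f (dl1 R w) = dl1 R' w := by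
  unfold dl1
  split_ifs <;> simp

theorem Egen_map (f : R →+* R') (q : R) :
    f (Egen cs ε₁ ε₂ ε₃ good ψ x x' d q) = Egen cs ε₁ ε₂ ε₃ good ψ x x' d (f q) := by
  unfold Egen
  rw [map_sum]
  refine Finset.sum_congr rfl fun v _ => ?_
  rw [map_sum]
  refine Finset.sum_congr rfl fun w _ => ?_
  split_ifs
  · simp only [map_mul, map_pow, Rw_map, map_dl1]
  · exact map_zero f

open Classical in
theorem Egen_one : Egen cs ε₁ ε₂ ε₃ good ψ x x' d (1 : R) =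
    ∑ v : W, if good (v * x')⁻¹ ∧ x * ψ v = v * x' then 1 else 0 := by
  unfold Egen
  refine Finset.sum_congr rfl fun v _ => ?_
  simp only [Rw_one, one_pow, one_mul, wordProd_rword, dl1]
  rw [Finset.sum_eq_single (v * x')⁻¹]
  · have h1 : ((v * x')⁻¹⁻¹ * (ψ v)⁻¹)⁻¹ * x = 1 ↔ x * ψ v = v * x' := by
      rw [inv_inv, inv_mul_eq_one, mul_inv_eq_iff_eq_mul, eq_comm]
    have h2 : (v * x')⁻¹ * v * x' = 1 := by group
    rw [if_pos h2, mul_one]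
    simp only [h1, ite_and]
  · intro w _ hw
    have h2 : w * v * x' ≠ 1 := fun h => hw (by rw [mul_assoc, mul_eq_one_iff_eq_inv] at h; exact h)
    rw [if_neg h2, mul_zero, ite_self]
  · simp

end generic

open Classical in
/-- the function supported on `B = U T` given by a character of `T` -/
noncomputable def idc (U T : Subgroup Y) [Fintype T] (Λ : Y → ℂ) (g : Y) : ℂ :=
  ∑ τ : T, if g * (τ : Y)⁻¹ ∈ U then Λ τ else 0

open Classical in
/-- admissible characters of `T` -/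
structure Adm (T N₀ : Subgroup Y) (π : Y → W) (X : I → Subgroup Y) [∀ i, Fintype (X i)] (h : I → Y → Y) (Q : ℕ)
    (Λ : Y → ℂ) (ε : W → I → Prop) : Prop where
  lin : Lin T Λ
  triv : ∀ t ∈ T, t ∈ N₀ → Λ t = 1
  eps : ∀ i, ∀ a ∈ N₀, ∑ ξ : X i, (if (ξ : Y) = 1 then 0 else Λ (a * h i ξ * a⁻¹)) =
    if ε (π a) i then (Q : ℂ) - 1 else 0

theorem Lin.mul_inv {T : Subgroup Y} {Λ : Y → ℂ} (h : Lin T Λ) {t : Y} (ht : t ∈ T) : Λ t * Λ t⁻¹ = 1 := by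
  rw [← h.mul t ht _ (inv_mem ht), mul_inv_cancel, h.one]

open Classical in
theorem Lin.sum {T : Subgroup Y} [Fintype T] {Λ : Y → ℂ} (h : Lin T Λ) :
    ∑ t : T, Λ t = if ∀ t ∈ T, Λ t = 1 then (Fintype.card T : ℂ) else 0 := by
  split_ifs with h1
  · rw [Finset.sum_congr rfl fun (t : T) _ => h1 t t.2, Finset.sum_const, Finset.card_univ, nsmul_eq_mul, mul_one]
  · push Not at h1
    obtain ⟨s, hs, h2⟩ := h1
    have h3 := sum_mul_left (K := T) Λ hs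
    rw [Finset.sum_congr rfl fun (t : T) _ => h.mul s hs t t.2, ← Finset.mul_sum] at h3
    have h4 : (Λ s - 1) * ∑ t : T, Λ t = 0 := by rw [sub_mul, h3, one_mul, sub_self]
    exact (mul_eq_zero.1 h4).resolve_left (sub_ne_zero.2 h2)

theorem sum_avg {K : Subgroup Y} [Fintype K] {c : ℂ} {f : K → ℂ} (h : ∀ u, f u = c) :
    (Fintype.card K : ℂ)⁻¹ * ∑ u : K, f u = c := by
  rw [Finset.sum_congr rfl fun u _ => h u, Finset.sum_const, Finset.card_univ, nsmul_eq_mul, ← mul_assoc,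
    inv_mul_cancel₀ (card_ne_zero K), one_mul]

theorem sum_mul_lr {K : Subgroup Y} [Fintype K] (F : Y → ℂ) {a b : Y} (ha : a ∈ K) (hb : b ∈ K) :
    ∑ u : K, F (a * u * b) = ∑ u : K, F u := by
  rw [sum_mul_left (K := K) (fun z => F (z * b)) ha, sum_mul_right F hb]

theorem sum_inv {K : Subgroup Y} [Fintype K] (F : Y → ℂ) : ∑ u : K, F (u : Y)⁻¹ = ∑ u : K, F u :=
  Fintype.sum_equiv (Equiv.inv K) _ _ fun _ => rfl

namespace SBN

variable {cs : CoxeterSystem M W} {G U T N : Subgroup Y} {π : Y → W} {n : I → Y} {X : I → Subgroup Y}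
  (S : SBN cs G U T N π n X)

include S

theorem eq_of_mul_inv_mem {a b : Y} (ha : a ∈ N) (hb : b ∈ N) (h : a * b⁻¹ ∈ U) : a = b :=
  S.uniq a ha b hb _ h 1 (one_mem _) (by group)

section idc

variable [Fintype T] {Λ : Y → ℂ}

omit S in
theorem idc_left {u : Y} (hu : u ∈ U) (g : Y) : idc U T Λ (u * g) = idc U T Λ g := by
  unfold idc
  refine Finset.sum_congr rfl fun τ _ => ?_
  rw [mul_assoc, U.mul_mem_cancel_left hu]

theorem idc_right {u : Y} (hu : u ∈ U) (g : Y) : idc U T Λ (g * u) = idc U T Λ g := by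
  unfold idc
  refine Finset.sum_congr rfl fun τ _ => ?_
  have : g * u * (τ : Y)⁻¹ = g * (τ : Y)⁻¹ * (τ * u * (τ : Y)⁻¹) := by group
  rw [this, U.mul_mem_cancel_right (S.T_norm _ τ.2 _ hu)]

omit S in
open Classical in
theorem idc_mul_T (hΛ : Lin T Λ) {t : Y} (ht : t ∈ T) (g : Y) : idc U T Λ (g * t) = Λ t * idc U T Λ g := by
  unfold idc
  rw [← sum_mul_right (K := T) (fun τ => if g * t * τ⁻¹ ∈ U then Λ τ else 0) ht, Finset.mul_sum]
  refine Finset.sum_congr rfl fun τ _ => ?_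
  have : g * t * (τ * t)⁻¹ = g * (τ : Y)⁻¹ := by group
  rw [this, hΛ.mul _ τ.2 _ ht]
  split_ifs <;> ring

open Classical in
theorem idc_T_mul (hΛ : Lin T Λ) {t : Y} (ht : t ∈ T) (g : Y) : idc U T Λ (t * g) = Λ t * idc U T Λ g := by
  unfold idc
  rw [← sum_mul_right (K := T) (fun τ => if t * g * τ⁻¹ ∈ U then Λ τ else 0) ht, Finset.mul_sum]
  refine Finset.sum_congr rfl fun τ _ => ?_
  have h1 : t * g * (τ * t)⁻¹ = t * (g * (τ : Y)⁻¹) * t⁻¹ := by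
    rw [S.T_comm _ τ.2 _ ht]; group
  have h2 : t * (g * (τ : Y)⁻¹) * t⁻¹ ∈ U ↔ g * (τ : Y)⁻¹ ∈ U :=
    ⟨fun h => by simpa [mul_assoc] using S.T_norm' ht h, fun h => S.T_norm _ ht _ h⟩
  rw [h1, h2, hΛ.mul _ τ.2 _ ht]
  split_ifs <;> ring

theorem good_idc {N₀ : Subgroup Y} (hN₀ : N₀ ≤ N) (hΛ : Lin T Λ) (h0 : ∀ t ∈ T, t ∈ N₀ → Λ t = 1) :
    Good U T N₀ π Λ (idc U T Λ) (dl1 ℂ) where
  bi := ⟨fun _ hu g => idc_left hu g, fun _ hu g => S.idc_right hu g⟩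
  eqv _ ht g := S.idc_T_mul hΛ ht g
  val a ha := by
    unfold idc dl1
    by_cases h1 : π a = 1
    · have h2 := (S.π_eq_one a (hN₀ ha)).1 h1
      rw [if_pos h1, Finset.sum_eq_single (⟨a, h2⟩ : T), if_pos (by simp), h0 a h2 ha]
      · intro τ _ hτ
        exact if_neg fun h => hτ (Subtype.ext (S.eq_of_mul_inv_mem (hN₀ ha) (S.T_le τ.2) h).symm)
      · simp
    · rw [if_neg h1]
      refine Finset.sum_eq_zero fun τ _ => if_neg fun h => h1 ?_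
      rw [S.eq_of_mul_inv_mem (hN₀ ha) (S.T_le τ.2) h, S.π_T τ.2]

end idc

section flat

variable [Fintype G] [Fintype U] (φ : Y →* Y) (hφU : ∀ u ∈ U, φ u ∈ U)

include hφU in
theorem sum_flat {f₁ f₂ : Y → ℂ} (h₁ : ∀ u ∈ U, ∀ g, f₁ (u * g) = f₁ g) (h₂ : ∀ u ∈ U, ∀ g, f₂ (u * g) = f₂ g)
    (x x' : Y) :
    ∑ h : G, ∑ c : G, f₁ (c * x) * f₂ ((φ h)⁻¹ * c * h * x') =
      ∑ h : G, ∑ c : G, avn U f₁ x c * avn U f₂ x' ((φ h)⁻¹ * c * h) := by
  have e1 : ∑ h : G, ∑ c : G, f₁ (c * x) * f₂ ((φ h)⁻¹ * c * h * x') =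
      ∑ h : G, ∑ c : G, f₁ (c * x) * avn U f₂ x' ((φ h)⁻¹ * c * h) := by
    refine (sum_avg (K := U) (f := fun u => ∑ h : G, ∑ c : G, f₁ (c * x) * f₂ ((φ h)⁻¹ * c * h * u * x'))
      fun u => ?_).symm.trans ?_
    swap
    · rw [Finset.sum_comm, Finset.mul_sum]
      refine Finset.sum_congr rfl fun h _ => ?_
      rw [Finset.sum_comm, Finset.mul_sum]
      refine Finset.sum_congr rfl fun c _ => ?_
      rw [avn, ← Finset.mul_sum]; ring
    · rw [← sum_mul_right (K := G) (fun h => ∑ c : G, f₁ (c * x) * f₂ ((φ h)⁻¹ * c * h * x')) (S.U_le u.2)]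
      refine Finset.sum_congr rfl fun h _ => Finset.sum_congr rfl fun c _ => ?_
      rw [← h₂ _ (inv_mem (hφU u u.2)), map_mul]
      congr 2; group
  rw [e1]
  refine (sum_avg (K := U) (f := fun u => ∑ h : G, ∑ c : G, f₁ (c * u * x) * avn U f₂ x' ((φ h)⁻¹ * c * h))
    fun u => ?_).symm.trans ?_
  swap
  · rw [Finset.sum_comm, Finset.mul_sum]
    refine Finset.sum_congr rfl fun h _ => ?_
    rw [Finset.sum_comm, Finset.mul_sum]
    refine Finset.sum_congr rfl fun c _ => ?_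
    rw [avn.eq_1 U f₁, ← Finset.sum_mul]; ring
  · rw [← sum_mul_left (K := G) (fun h => ∑ c : G, f₁ (c * x) * avn U f₂ x' ((φ h)⁻¹ * c * h))
      (inv_mem (S.U_le u.2))]
    refine Finset.sum_congr rfl fun h _ => ?_
    rw [← sum_mul_lr (K := G) (fun c => f₁ (c * x) * avn U f₂ x' ((φ ((u : Y)⁻¹ * h))⁻¹ * c * ((u : Y)⁻¹ * h)))
      (inv_mem (S.U_le (hφU u u.2))) (S.U_le u.2)]
    refine Finset.sum_congr rfl fun c _ => ?_
    rw [← h₁ _ (inv_mem (hφU u u.2)), map_mul, map_inv]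
    congr 2 <;> group

variable [Fintype T] [Fintype W] {Q : ℕ} (hQ : ∀ i, Nat.card (X i) = Q) (hφT : ∀ t ∈ T, φ t ∈ T)

omit [Fintype U] in
include hφU hQ hφT in
theorem sum_tw {A B : Y → ℂ} (hA : Bi U A) (hB : Bi U B) (hAT : ∀ t ∈ T, ∀ c, A (φ t * c * t⁻¹) = A c)
    (hφn : ∀ v, φ (lift cs n v) ∈ G) :
    ∑ h : G, ∑ c : G, A c * B ((φ h)⁻¹ * c * h) =
      ∑ v : W, (Fintype.card T : ℂ) * (Nat.card U * (Q : ℂ) ^ cs.length v *
        ∑ g : G, A (φ (lift cs n v) * g) * B (g * lift cs n v)) := by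
  have hH : Bi U fun h => ∑ c : G, A c * B ((φ h)⁻¹ * c * h) := by
    constructor
    · intro u hu h
      rw [← sum_mul_lr (K := G) (fun c => A c * B ((φ (u * h))⁻¹ * c * (u * h))) (S.U_le (hφU u hu))
        (inv_mem (S.U_le hu))]
      refine Finset.sum_congr rfl fun c _ => ?_
      rw [hA.right _ (inv_mem hu), hA.left _ (hφU u hu), map_mul]
      congr 2; group
    · intro u hu h
      refine Finset.sum_congr rfl fun c _ => ?_
      rw [← hB.left _ (hφU u hu), ← hB.right _ (inv_mem hu), map_mul]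
      congr 2; group
  rw [S.sum_G hQ hH]
  refine Finset.sum_congr rfl fun v _ => ?_
  have h1 : ∀ τ : T, ∑ c : G, A c * B ((φ (τ * lift cs n v))⁻¹ * c * (τ * lift cs n v)) =
      ∑ g : G, A (φ (lift cs n v) * g) * B (g * lift cs n v) := by
    intro τ
    rw [← sum_mul_lr (K := G) (fun c => A c * B ((φ (τ * lift cs n v))⁻¹ * c * (τ * lift cs n v)))
      (mul_mem (S.N_le (S.T_le (hφT _ τ.2))) (hφn v)) (inv_mem (S.N_le (S.T_le τ.2)))]
    refine Finset.sum_congr rfl fun c _ => ?_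
    rw [← hAT _ τ.2 (φ (lift cs n v) * c), map_mul]
    congr 2 <;> group
  rw [Finset.sum_congr rfl fun τ _ => by rw [h1 τ], Finset.sum_const, Finset.card_univ, nsmul_eq_mul]

end flat

section pair

variable [Fintype G] [Fintype U] [Fintype T] [Fintype W] [∀ i, Fintype (X i)] {Q : ℕ}
  (hQ : ∀ i, Fintype.card (X i) = Q) {N₀ : Subgroup Y} (hN₀ : N₀ ≤ N) (hn₀ : ∀ i, n i ∈ N₀) {h : I → Y → Y}
  (hrk : ∀ i, ∀ ξ ∈ X i, ξ ≠ 1 → h i ξ ∈ T ∧ n i * ξ * n i ∈ dc U (h i ξ * n i))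

omit [Fintype G] [Fintype T] [Fintype W] in
include hQ hN₀ hn₀ hrk in
theorem good_avn {Λ : Y → ℂ} {ε : W → I → Prop} (hΛ : Adm T N₀ π X h Q Λ ε) {f : Y → ℂ} {φ : W → ℂ}
    (hf : Good U T N₀ π Λ f φ) {y : Y} (hy : y ∈ N₀) :
    Good U T N₀ π Λ (fun g => (Q : ℂ) ^ cs.length (π y) * avn U f y g) (Rw cs ε (Q : ℂ) (rword cs (π y)) φ) where
  bi := ⟨fun u hu g => by rw [(Bi.avn hf.bi.left y).left u hu], fun u hu g => by rw [(Bi.avn hf.bi.left y).right u hu]⟩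
  eqv t ht g := by rw [avn_left (hf.eqv t ht)]; ring
  val _ ha := S.avn_val hQ hN₀ hn₀ hrk hΛ.eps hf hy ha

open Classical in
include hQ hN₀ hn₀ hrk in
theorem sum_pair {Λ₂ Λ₃ : Y → ℂ} {ε₂ ε₃ : W → I → Prop} (h₂ : Adm T N₀ π X h Q Λ₂ ε₂) (h₃ : Adm T N₀ π X h Q Λ₃ ε₃)
    {B C : Y → ℂ} {φ₂ φ₃ : W → ℂ} (hB : Good U T N₀ π Λ₂ B φ₂) (hC : Good U T N₀ π Λ₃ C φ₃) {good : W → Prop}
    (hgood : ∀ w, good w ↔ ∀ t ∈ T, Λ₂ t * Λ₃ ((lift cs n w)⁻¹ * t⁻¹ * lift cs n w) = 1)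
    {y v : Y} (hy : y ∈ N₀) (hv : v ∈ N₀) :
    (Q : ℂ) ^ (cs.length (π y) + cs.length (π v)) * ∑ g : G, C ((g : Y)⁻¹ * y) * B (g * v) =
      ∑ w : W, if good w then (Fintype.card T : ℂ) * (Nat.card U * (Q : ℂ) ^ cs.length w *
        (Rw cs ε₃ (Q : ℂ) (rword cs (π y)) φ₃ w⁻¹ * Rw cs ε₂ (Q : ℂ) (rword cs (π v)) φ₂ w)) else 0 := by
  have e1 : ∑ g : G, C ((g : Y)⁻¹ * y) * B (g * v) = ∑ g : G, avn U C y (g : Y)⁻¹ * B (g * v) := by
    refine (sum_avg (K := U) (f := fun u => ∑ g : G, C ((g : Y)⁻¹ * u * y) * B (g * v)) fun u => ?_).symm.trans ?_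
    swap
    · rw [Finset.sum_comm, Finset.mul_sum]
      refine Finset.sum_congr rfl fun g _ => ?_
      rw [avn, ← Finset.sum_mul]; ring
    · rw [← sum_mul_left (K := G) (fun g => C (g⁻¹ * y) * B (g * v)) (inv_mem (S.U_le u.2))]
      refine Finset.sum_congr rfl fun g _ => ?_
      rw [mul_assoc (u : Y)⁻¹, hB.bi.left _ (inv_mem u.2)]
      congr 2; group
  have e2 : ∑ g : G, avn U C y (g : Y)⁻¹ * B (g * v) = ∑ g : G, avn U C y (g : Y)⁻¹ * avn U B v g := by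
    refine (sum_avg (K := U) (f := fun u => ∑ g : G, avn U C y (g : Y)⁻¹ * B (g * u * v))
      fun u => ?_).symm.trans ?_
    swap
    · rw [Finset.sum_comm, Finset.mul_sum]
      refine Finset.sum_congr rfl fun g _ => ?_
      rw [avn.eq_1 U B, ← Finset.mul_sum]; ring
    · rw [← sum_mul_right (K := G) (fun g => avn U C y g⁻¹ * B (g * v)) (S.U_le u.2)]
      refine Finset.sum_congr rfl fun g _ => ?_
      rw [mul_inv_rev, (Bi.avn hC.bi.left y).left _ (inv_mem u.2)]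
  have hB' := S.good_avn hQ hN₀ hn₀ hrk h₂ hB hv
  have hC' := S.good_avn hQ hN₀ hn₀ hrk h₃ hC hy
  set B' : Y → ℂ := fun g => (Q : ℂ) ^ cs.length (π v) * avn U B v g with hB'd
  set C' : Y → ℂ := fun g => (Q : ℂ) ^ cs.length (π y) * avn U C y g with hC'd
  have e3 : (Q : ℂ) ^ (cs.length (π y) + cs.length (π v)) * ∑ g : G, avn U C y (g : Y)⁻¹ * avn U B v g =
      ∑ g : G, C' (g : Y)⁻¹ * B' g := by
    rw [Finset.mul_sum]
    refine Finset.sum_congr rfl fun g _ => ?_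
    simp only [hB'd, hC'd]; ring
  have hbi : Bi U fun g => C' g⁻¹ * B' g :=
    ⟨fun u hu g => by rw [mul_inv_rev, hC'.bi.right _ (inv_mem hu), hB'.bi.left _ hu],
      fun u hu g => by rw [mul_inv_rev, hC'.bi.left _ (inv_mem hu), hB'.bi.right _ hu]⟩
  rw [e1, e2, e3, S.sum_G (fun i => by rw [Nat.card_eq_fintype_card, hQ]) hbi]
  refine Finset.sum_congr rfl fun w _ => ?_
  have hw : lift cs n w ∈ N₀ := lw_mem hn₀ _
  have hwN := hN₀ hw
  have hlin : Lin T fun t => Λ₂ t * Λ₃ ((lift cs n w)⁻¹ * t⁻¹ * lift cs n w) := by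
    refine ⟨by simp [h₂.lin.one, h₃.lin.one], fun a ha b hb => ?_⟩
    have h1 : (lift cs n w)⁻¹ * (a * b)⁻¹ * lift cs n w =
        ((lift cs n w)⁻¹ * a⁻¹ * lift cs n w) * ((lift cs n w)⁻¹ * b⁻¹ * lift cs n w) := by
      rw [S.T_comm a ha b hb]; group
    rw [h1, h₂.lin.mul a ha b hb, h₃.lin.mul _ (S.conj_T' hwN (inv_mem ha)) _ (S.conj_T' hwN (inv_mem hb))]
    ring
  have h2 : ∀ τ : T, C' ((τ : Y) * lift cs n w)⁻¹ * B' (τ * lift cs n w) =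
      (Λ₂ τ * Λ₃ ((lift cs n w)⁻¹ * (τ : Y)⁻¹ * lift cs n w)) *
        (Rw cs ε₃ (Q : ℂ) (rword cs (π y)) φ₃ w⁻¹ * Rw cs ε₂ (Q : ℂ) (rword cs (π v)) φ₂ w) := by
    intro τ
    have h3 : ((τ : Y) * lift cs n w)⁻¹ = ((lift cs n w)⁻¹ * (τ : Y)⁻¹ * lift cs n w) * (lift cs n w)⁻¹ := by group
    rw [h3, hC'.eqv _ (S.conj_T' hwN (inv_mem τ.2)), hB'.eqv _ τ.2, hC'.val _ (inv_mem hw), hB'.val _ hw,
      S.π_inv hwN, S.π_lift]
    ring
  rw [Finset.sum_congr rfl fun τ _ => by rw [h2 τ], ← Finset.mul_sum, ← Finset.sum_mul, hlin.sum, hgood w]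
  split_ifs <;> ring

include hQ hN₀ hn₀ hrk in
/-- **The Mackey count at a finite level.** -/
theorem efin (φ : Y →* Y) (hφU : ∀ u ∈ U, φ u ∈ U) (hφT : ∀ t ∈ T, φ t ∈ T) (hφN : ∀ a ∈ N₀, φ a ∈ N₀)
    {Λ₁ Λ₂ Λ₃ : Y → ℂ} {ε₁ ε₂ ε₃ : W → I → Prop} (h₁ : Adm T N₀ π X h Q Λ₁ ε₁) (h₂ : Adm T N₀ π X h Q Λ₂ ε₂)
    (h₃ : Adm T N₀ π X h Q Λ₃ ε₃) {x x' : Y} (hx : x ∈ N₀) (hx' : x' ∈ N₀)
    (h13 : ∀ t ∈ T, Λ₃ t = Λ₁ (x⁻¹ * t⁻¹ * x)) (hφ1 : ∀ t ∈ T, Λ₁ (φ t) * Λ₃ t = 1) {good : W → Prop}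
    (hgood : ∀ w, good w ↔ ∀ t ∈ T, Λ₂ t * Λ₃ ((lift cs n w)⁻¹ * t⁻¹ * lift cs n w) = 1)
    {ψ : W → W} (hψ : ∀ v, ψ v = π (φ (lift cs n v))) {d : ℕ} (hd : Nat.card U = Q ^ d) :
    (Q : ℂ) ^ (cs.length (π x) + cs.length (π x') + bnd cs ψ) *
        ∑ h : G, ∑ c : G, idc U T Λ₁ (c * x) * idc U T Λ₂ ((φ h)⁻¹ * c * h * x') =
      (Fintype.card T : ℂ) ^ 2 * Egen cs ε₁ ε₂ ε₃ good ψ (π x) (π x') d (Q : ℂ) := by
  classical
  have g₁ := S.good_idc hN₀ h₁.lin h₁.triv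
  have g₂ := S.good_idc hN₀ h₂.lin h₂.triv
  have hA := S.good_avn hQ hN₀ hn₀ hrk h₁ g₁ hx
  have hB := S.good_avn hQ hN₀ hn₀ hrk h₂ g₂ hx'
  set A : Y → ℂ := fun g => (Q : ℂ) ^ cs.length (π x) * avn U (idc U T Λ₁) x g with hAd
  set B : Y → ℂ := fun g => (Q : ℂ) ^ cs.length (π x') * avn U (idc U T Λ₂) x' g with hBd
  have hAr : ∀ t ∈ T, ∀ c, A (c * t⁻¹) = Λ₃ t * A c := by
    intro t ht c
    simp only [hAd, avn]
    rw [h13 t ht]
    have h1 : ∑ u : U, idc U T Λ₁ (c * t⁻¹ * u * x) = Λ₁ (x⁻¹ * t⁻¹ * x) * ∑ u : U, idc U T Λ₁ (c * u * x) := by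
      rw [Finset.mul_sum]
      refine Fintype.sum_equiv
        ⟨fun u => ⟨t⁻¹ * u * t, S.T_norm' ht u.2⟩, fun u => ⟨t * u * t⁻¹, S.T_norm _ ht _ u.2⟩,
          fun u => Subtype.ext (by simp only; group), fun u => Subtype.ext (by simp only; group)⟩ _ _ fun u => ?_
      rw [← idc_mul_T h₁.lin (S.conj_T' (hN₀ hx) (inv_mem ht))]
      congr 1
      show c * t⁻¹ * u * x = c * (t⁻¹ * u * t) * x * (x⁻¹ * t⁻¹ * x)
      group
    rw [h1]; ring
  have hC : Good U T N₀ π Λ₃ (fun g => A g⁻¹) fun z => Rw cs ε₁ (Q : ℂ) (rword cs (π x)) (dl1 ℂ) z⁻¹ :=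
    ⟨⟨fun u hu g => by rw [mul_inv_rev, hA.bi.right _ (inv_mem hu)],
      fun u hu g => by rw [mul_inv_rev, hA.bi.left _ (inv_mem hu)]⟩,
      fun t ht g => by rw [mul_inv_rev, hAr t ht], fun a ha => by rw [hA.val _ (inv_mem ha), S.π_inv (hN₀ ha)]⟩
  have hl : ∀ v, lift cs n v ∈ N₀ := fun v => lw_mem hn₀ _
  have e1 : (Q : ℂ) ^ (cs.length (π x) + cs.length (π x')) *
      ∑ h : G, ∑ c : G, idc U T Λ₁ (c * x) * idc U T Λ₂ ((φ h)⁻¹ * c * h * x') =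
      ∑ h : G, ∑ c : G, A c * B ((φ h)⁻¹ * c * h) := by
    rw [S.sum_flat φ hφU g₁.bi.left g₂.bi.left, Finset.mul_sum]
    refine Finset.sum_congr rfl fun h _ => ?_
    rw [Finset.mul_sum]
    refine Finset.sum_congr rfl fun c _ => ?_
    simp only [hAd, hBd]; ring
  rw [pow_add, mul_comm _ ((Q : ℂ) ^ bnd cs ψ), mul_assoc, e1,
    S.sum_tw φ hφU (fun i => by rw [Nat.card_eq_fintype_card, hQ]) hφT hA.bi hB.bi
      (fun t ht c => by rw [hAr t ht, hA.eqv _ (hφT t ht), ← mul_assoc, mul_comm (Λ₃ t), hφ1 t ht, one_mul])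
      (fun v => S.N_le (hN₀ (hφN _ (hl v)))), Egen, Finset.mul_sum, Finset.mul_sum]
  refine Finset.sum_congr rfl fun v _ => ?_
  have h2 := S.sum_pair hQ hN₀ hn₀ hrk h₂ h₃ hB hC hgood (inv_mem (hφN _ (hl v))) (hl v)
  rw [S.π_inv (hN₀ (hφN _ (hl v))), ← hψ, S.π_lift] at h2
  simp only [mul_inv_rev, inv_inv] at h2
  obtain ⟨r, hr⟩ := Nat.exists_eq_add_of_le (le_bnd cs ψ v)
  have h3 : bnd cs ψ - cs.length (ψ v)⁻¹ = r := by omega
  rw [h3, hr]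
  calc _ = (Fintype.card T : ℂ) * Nat.card U * (Q : ℂ) ^ r *
        ((Q : ℂ) ^ (cs.length (ψ v)⁻¹ + cs.length v) *
          ∑ g : G, A (φ (lift cs n v) * g) * B (g * lift cs n v)) := by ring
    _ = _ := by
      rw [h2, Finset.mul_sum, Finset.mul_sum]
      refine Finset.sum_congr rfl fun w _ => ?_
      split_ifs
      · rw [hd]; push_cast; ring
      · ring

end pair

end SBN

end Cfsg.Agent.DL.Mk
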