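import Cfsg.Agent.DL.Mk.Efin
import Cfsg.Agent.DL.CF.Count

/-!
# Transport of the Mackey count along the Lang map (project DL; helper8)
-/

set_option autoImplicit false

namespace Cfsg.Agent.DL.Mk

open Cfsg.Agent.DL.CF

variable {Y : Type*} [Group Y]

section prs

variable (F σ : Y →* Y) (G : Subgroup Y)

/-- the pairs `(x⁻¹ F x, x⁻¹ x')` -/
def prs (V V' : Set Y) (t t' : Y) : Set (Y × Y) :=
  {z | z.1 ∈ G ∧ z.2 ∈ G ∧ z.1 ∈ V ∧ z.2⁻¹ * z.1 * F z.2 ∈ V' ∧ σ z.1 = t * z.1 * t⁻¹ ∧ σ z.2 = t * z.2 * t'⁻¹}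

variable {F σ G} {H : Subgroup Y} {V V' : Set Y} {t t' : Y}

theorem nonempty_equiv_prs (hH : ∀ y, y ∈ H ↔ y ∈ G ∧ F y = y) (hL : ∀ a ∈ G, ∃ c ∈ G, a = c⁻¹ * F c)
    (hFG : ∀ g ∈ G, F g ∈ G) (hσG : ∀ g ∈ G, σ g ∈ G) (hc : ∀ x, σ (F x) = F (σ x)) (ht : t ∈ H) (ht' : t' ∈ H) :
    Nonempty (H × prs F σ G V V' t t' ≃ Σ g : H, pts F σ G V g t × pts F σ G V' g t') := by
  choose η hη hηe using fun z : prs F σ G V V' t t' => hL z.1.1 z.2.1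
  have htG := ((hH t).1 ht).1
  have htF := ((hH t).1 ht).2
  have htF' := ((hH t').1 ht').2
  have A0 : ∀ (k : H) (z : prs F σ G V V' t t'), ((k : Y) * η z)⁻¹ * F (k * η z) = z.1.1 := by
    intro k z
    rw [map_mul, ((hH k).1 k.2).2, hηe z]; group
  have A1 : ∀ (k : H) (z : prs F σ G V V' t t'), (k : Y) * η z ∈ G := fun k z =>
    mul_mem ((hH k).1 k.2).1 (hη z)
  have A2 : ∀ (k : H) (z : prs F σ G V V' t t'), σ (k * η z) * t * ((k : Y) * η z)⁻¹ ∈ H := by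
    intro k z
    refine (hH _).2 ⟨mul_mem (mul_mem (hσG _ (A1 k z)) htG) (inv_mem (A1 k z)), ?_⟩
    have h1 := z.2.2.2.2.2.1
    rw [← A0 k z, map_mul, map_inv, hc] at h1
    rw [map_mul, map_mul, map_inv, htF]
    calc F (σ (k * η z)) * t * (F (k * η z))⁻¹
        = σ (k * η z) * ((σ (k * η z))⁻¹ * F (σ (k * η z))) * t * (F (k * η z))⁻¹ := by group
      _ = _ := by rw [h1]; group
  refine ⟨Equiv.ofBijective (fun q => ⟨⟨_, A2 q.1 q.2⟩, ⟨(q.1 : Y) * η q.2, A1 q.1 q.2, ?_, ?_⟩,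
    ⟨(q.1 : Y) * η q.2 * q.2.1.2, mul_mem (A1 q.1 q.2) q.2.2.2.1, ?_, ?_⟩⟩) ⟨?_, ?_⟩⟩
  · rw [A0]; exact q.2.2.2.2.1
  · show σ _ = σ (q.1 * η q.2) * t * ((q.1 : Y) * η q.2)⁻¹ * ((q.1 : Y) * η q.2) * t⁻¹
    group
  · have h1 := q.2.2.2.2.2.1
    rw [← A0 q.1 q.2] at h1
    convert h1 using 1
    rw [map_mul _ (_ * _)]; group
  · show σ _ = σ (q.1 * η q.2) * t * ((q.1 : Y) * η q.2)⁻¹ * ((q.1 : Y) * η q.2 * q.2.1.2) * t'⁻¹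
    rw [map_mul _ (_ * _), q.2.2.2.2.2.2.2]; group
  · rintro ⟨k, z⟩ ⟨k', z'⟩ e
    have h1 : (k : Y) * η z = k' * η z' := congrArg (fun w => (w.2.1.1 : Y)) e
    have h2 : (k : Y) * η z * z.1.2 = k' * η z' * z'.1.2 := congrArg (fun w => (w.2.2.1 : Y)) e
    have h3 : z = z' := by
      refine Subtype.ext (Prod.ext ?_ ?_)
      · rw [← A0 k z, ← A0 k' z', h1]
      · rw [h1] at h2; exact mul_left_cancel h2
    subst h3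
    exact Prod.ext (Subtype.ext (mul_right_cancel h1)) rfl
  · rintro ⟨⟨g, hg⟩, ⟨x, hx, hxV, hxσ⟩, ⟨x', hx', hxV', hxσ'⟩⟩
    have hxσ₁ : σ x = g * x * t⁻¹ := hxσ
    have hxσ₂ : σ x' = g * x' * t'⁻¹ := hxσ'
    have hgF := ((hH g).1 hg).2
    let z : prs F σ G V V' t t' := ⟨(x⁻¹ * F x, x⁻¹ * x'), mul_mem (inv_mem hx) (hFG x hx),
      mul_mem (inv_mem hx) hx', hxV, by
        convert hxV' using 1
        simp only [map_mul, map_inv]; group, by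
        simp only
        rw [map_mul, map_inv, hc, hxσ₁, map_mul, map_mul, map_inv, hgF, htF]; group, by
        simp only
        rw [map_mul, map_inv, hxσ₁, hxσ₂]; group⟩
    have h1 : x * (η z)⁻¹ ∈ H := by
      refine (hH _).2 ⟨mul_mem hx (inv_mem (hη z)), ?_⟩
      have h2 : x⁻¹ * F x = (η z)⁻¹ * F (η z) := hηe z
      rw [map_mul, map_inv]
      calc F x * (F (η z))⁻¹ = x * (x⁻¹ * F x) * (F (η z))⁻¹ := by group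
        _ = _ := by rw [h2]; group
    have h2 : x * (η z)⁻¹ * η z = x := by group
    refine ⟨(⟨_, h1⟩, z), ?_⟩
    have h3 : σ (x * (η z)⁻¹ * η z) * t * (x * (η z)⁻¹ * η z)⁻¹ = g := by rw [h2, hxσ₁]; group
    have gen : ∀ (a a' : H) (b : pts F σ G V a t × pts F σ G V' a t') (b' : pts F σ G V a' t × pts F σ G V' a' t'),
        a = a' → (b.1 : Y) = b'.1 → (b.2 : Y) = b'.2 →
        (⟨a, b⟩ : Σ g : H, pts F σ G V g t × pts F σ G V' g t') = ⟨a', b'⟩ := by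
      rintro a _ b b' rfl e1 e2
      rw [Prod.ext (Subtype.ext e1) (Subtype.ext e2 : b.2 = b'.2)]
    refine gen _ _ _ _ (Subtype.ext h3) h2 ?_
    show x * (η z)⁻¹ * η z * (x⁻¹ * x') = x'
    group

theorem sum_cnt_mul [Fintype H] (hH : ∀ y, y ∈ H ↔ y ∈ G ∧ F y = y) (hL : ∀ a ∈ G, ∃ c ∈ G, a = c⁻¹ * F c)
    (hFG : ∀ g ∈ G, F g ∈ G) (hσG : ∀ g ∈ G, σ g ∈ G) (hc : ∀ x, σ (F x) = F (σ x)) (ht : t ∈ H) (ht' : t' ∈ H)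
    [Finite (prs F σ G V V' t t')] :
    ∑ g : H, cnt F σ G V g t * cnt F σ G V' g t' = Fintype.card H * Nat.card (prs F σ G V V' t t') := by
  obtain ⟨e⟩ := nonempty_equiv_prs (V := V) (V' := V') hH hL hFG hσG hc ht ht'
  have h1 : Finite (Σ g : H, pts F σ G V g t × pts F σ G V' g t') := Finite.of_equiv _ e
  have h2 : ∀ g : H, Finite (pts F σ G V g t × pts F σ G V' g t') := fun g =>
    Finite.of_injective _ (sigma_mk_injective (β := fun g : H => pts F σ G V g t × pts F σ G V' g t') (i := g))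
  rw [← Nat.card_eq_fintype_card, ← Nat.card_prod, Nat.card_congr e, Nat.card_sigma]
  exact Finset.sum_congr rfl fun g _ => (Nat.card_prod _ _).symm

/-- untwisting -/
theorem nonempty_equiv_tw {G₀ U : Subgroup Y} (hG₀ : ∀ y, y ∈ G₀ ↔ y ∈ G ∧ σ y = y) (hFG : ∀ g ∈ G, F g ∈ G)
    (hc : ∀ x, σ (F x) = F (σ x)) {φ : Y →* Y} {y z b τ y' z' b' τ' : Y} (hy : y ∈ G₀) (hz : z ∈ G₀) (hb : b ∈ G)
    (hy' : y' ∈ G₀) (hb' : b' ∈ G) (hφ : ∀ h, φ (y⁻¹ * h * y') = z⁻¹ * F h * z')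
    (hτ : z * τ⁻¹ * z⁻¹ = b * (F b)⁻¹) (hτ' : z' * τ'⁻¹ * z'⁻¹ = b' * (F b')⁻¹)
    (hσ : σ b * t = b) (hσ' : σ b' * t' = b') (ht : F t = t)
    (hV : ∀ r, r ∈ V ↔ z⁻¹ * (F b * r⁻¹ * (F b)⁻¹) * z ∈ U)
    (hV' : ∀ r, r ∈ V' ↔ z'⁻¹ * (F b' * r⁻¹ * (F b')⁻¹) * z' ∈ U) :
    Nonempty (prs F σ G V V' t t' ≃ {q : G₀ × G₀ // (q.2 : Y) * (y⁻¹ * z) * τ⁻¹ ∈ U ∧
      (φ q.1)⁻¹ * q.2 * q.1 * (y'⁻¹ * z') * τ'⁻¹ ∈ U}) := by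
  obtain ⟨hyG, hyσ⟩ := (hG₀ y).1 hy
  obtain ⟨hzG, hzσ⟩ := (hG₀ z).1 hz
  obtain ⟨hyG', hyσ'⟩ := (hG₀ y').1 hy'
  have e1 : σ b = b * t⁻¹ := eq_mul_inv_of_mul_eq hσ
  have e2 : σ b' = b' * t'⁻¹ := eq_mul_inv_of_mul_eq hσ'
  have e3 : σ (F b) = F b * t⁻¹ := by rw [hc, e1, map_mul, map_inv, ht]
  have e4 : τ⁻¹ = z⁻¹ * (b * (F b)⁻¹) * z := by rw [← hτ]; group
  have e5 : τ'⁻¹ = z'⁻¹ * (b' * (F b')⁻¹) * z' := by rw [← hτ']; group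
  have k1 : ∀ a : Y, z⁻¹ * F b * a⁻¹ * b⁻¹ * y * (y⁻¹ * z) * τ⁻¹ ∈ U ↔ a ∈ V := by
    intro a
    rw [hV, e4]
    exact iff_of_eq (congrArg (· ∈ U) (by group))
  have k2 : ∀ a h : Y, (φ (y⁻¹ * (b * h * b'⁻¹) * y'))⁻¹ * (z⁻¹ * F b * a⁻¹ * b⁻¹ * y) * (y⁻¹ * (b * h * b'⁻¹) * y') *
      (y'⁻¹ * z') * τ'⁻¹ ∈ U ↔ h⁻¹ * a * F h ∈ V' := by
    intro a h
    rw [hV', e5, hφ, map_mul, map_mul, map_inv]
    exact iff_of_eq (congrArg (· ∈ U) (by group))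
  refine ⟨⟨fun q => ⟨(⟨y⁻¹ * (b * q.1.2 * b'⁻¹) * y', (hG₀ _).2 ⟨?_, ?_⟩⟩,
      ⟨z⁻¹ * F b * q.1.1⁻¹ * b⁻¹ * y, (hG₀ _).2 ⟨?_, ?_⟩⟩), (k1 _).2 q.2.2.2.1, (k2 _ _).2 q.2.2.2.2.1⟩,
    fun q => ⟨(b⁻¹ * y * (q.1.2 : Y)⁻¹ * z⁻¹ * F b, b⁻¹ * y * q.1.1 * y'⁻¹ * b'), ?_, ?_, ?_, ?_, ?_, ?_⟩,
    fun q => Subtype.ext (Prod.ext ?_ ?_), fun q => Subtype.ext (Prod.ext (Subtype.ext ?_) (Subtype.ext ?_))⟩⟩
  · exact mul_mem (mul_mem (inv_mem hyG) (mul_mem (mul_mem hb q.2.2.1) (inv_mem hb'))) hyG'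
  · simp only [map_mul, map_inv, hyσ, hyσ', e1, e2, q.2.2.2.2.2.2]; group
  · exact mul_mem (mul_mem (mul_mem (mul_mem (inv_mem hzG) (hFG b hb)) (inv_mem q.2.1)) (inv_mem hb)) hyG
  · simp only [map_mul, map_inv, hyσ, hzσ, e1, e3, q.2.2.2.2.2.1]; group
  · exact mul_mem (mul_mem (mul_mem (mul_mem (inv_mem hb) hyG) (inv_mem ((hG₀ _).1 q.1.2.2).1)) (inv_mem hzG))
      (hFG b hb)
  · exact mul_mem (mul_mem (mul_mem (mul_mem (inv_mem hb) hyG) ((hG₀ _).1 q.1.1.2).1) (inv_mem hyG')) hb'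
  · rw [← k1]
    convert q.2.1 using 3
    simp only; group
  · rw [← k2]
    have h1 : y⁻¹ * (b * (b⁻¹ * y * q.1.1 * y'⁻¹ * b') * b'⁻¹) * y' = q.1.1 := by group
    have h2 : z⁻¹ * F b * (b⁻¹ * y * (q.1.2 : Y)⁻¹ * z⁻¹ * F b)⁻¹ * b⁻¹ * y = q.1.2 := by group
    simp only
    rw [h1, h2]
    exact q.2.2
  · simp only [map_mul, map_inv, hyσ, hzσ, e1, e3, ((hG₀ _).1 q.1.2.2).2]; group
  · simp only [map_mul, map_inv, hyσ, hyσ', e1, e2, ((hG₀ _).1 q.1.1.2).2]; group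
  · simp only; group
  · simp only; group
  · simp only; group
  · simp only; group

end prs

/-- summation along a surjective homomorphism -/
theorem sum_comp_surj {A B : Subgroup Y} [Fintype A] [Fintype B] {ν : Y → Y} (hm : ∀ a ∈ A, ν a ∈ B)
    (hmul : ∀ a ∈ A, ∀ b ∈ A, ν (a * b) = ν a * ν b) (hs : ∀ b ∈ B, ∃ a ∈ A, ν a = b) (f : Y → ℂ) :
    (Fintype.card B : ℂ) * ∑ a : A, f (ν a) = Fintype.card A * ∑ b : B, f b := by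
  have h1 : ∀ b : B, ∑ a : A, f (ν a * b) = ∑ a : A, f (ν a) := by
    intro b
    obtain ⟨c, hc, e⟩ := hs b b.2
    rw [← sum_mul_right (K := A) (fun a => f (ν a)) hc]
    exact Finset.sum_congr rfl fun a _ => by rw [hmul _ a.2 _ hc, e]
  have h2 : ∑ b : B, ∑ a : A, f (ν a * b) = Fintype.card B * ∑ a : A, f (ν a) := by
    rw [Finset.sum_congr rfl fun b _ => h1 b, Finset.sum_const, Finset.card_univ, nsmul_eq_mul]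
  rw [← h2, Finset.sum_comm, Finset.sum_congr rfl fun (a : A) _ => sum_mul_left (K := B) f (hm a a.2),
    Finset.sum_const, Finset.card_univ, nsmul_eq_mul]

/-- A twisted torus at a finite level. -/
structure Tw (F σ : Y →* Y) (G G₀ U T₀ K : Subgroup Y) (V : Set Y) (y z : Y) (ν : Y → Y) : Prop where
  y_mem : y ∈ G₀
  z_mem : z ∈ G₀
  K_le : ∀ t ∈ K, t ∈ G ∧ F t = t
  map : ∀ a ∈ T₀, ν a ∈ K
  mul : ∀ a ∈ T₀, ∀ b ∈ T₀, ν (a * b) = ν a * ν b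
  surj : ∀ t ∈ K, ∃ a ∈ T₀, ν a = t
  ex : ∀ τ ∈ T₀, ∃ b ∈ G, z * τ⁻¹ * z⁻¹ = b * (F b)⁻¹ ∧ σ b * ν τ = b ∧
    ∀ r, r ∈ V ↔ z⁻¹ * (F b * r⁻¹ * (F b)⁻¹) * z ∈ U

/-- **Transport along the Lang map.** -/
theorem lang_transport {F σ φ : Y →* Y} {G G₀ H U U₀ T₀ K K' : Subgroup Y} {V V' : Set Y} {y z y' z' : Y}
    {ν ν' : Y → Y} [Fintype G₀] [Fintype H] [Fintype T₀] [Fintype K] [Fintype K']
    (hH : ∀ y, y ∈ H ↔ y ∈ G ∧ F y = y) (hG₀ : ∀ y, y ∈ G₀ ↔ y ∈ G ∧ σ y = y) (hT₀ : T₀ ≤ G₀)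
    (hU₀ : ∀ u ∈ G₀, u ∈ U₀ ↔ u ∈ U) (hL : ∀ a ∈ G, ∃ c ∈ G, a = c⁻¹ * F c)
    (hFG : ∀ g ∈ G, F g ∈ G) (hσG : ∀ g ∈ G, σ g ∈ G) (hc : ∀ x, σ (F x) = F (σ x))
    (hφG : ∀ g ∈ G₀, φ g ∈ G₀) (hφ : ∀ h, φ (y⁻¹ * h * y') = z⁻¹ * F h * z')
    (A : Tw F σ G G₀ U T₀ K V y z ν) (A' : Tw F σ G G₀ U T₀ K' V' y' z' ν') (θ θ' : Y → ℂ) :
    (Fintype.card T₀ : ℂ) ^ 2 *
        ∑ g : H, (∑ t : K, (cnt F σ G V g t : ℂ) * θ t) * (∑ t : K', (cnt F σ G V' g t : ℂ) * θ' t) =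
      (Fintype.card H : ℂ) * Fintype.card K * Fintype.card K' *
        ∑ h : G₀, ∑ c : G₀, idc U₀ T₀ (fun τ => θ (ν τ)) (c * (y⁻¹ * z)) *
          idc U₀ T₀ (fun τ => θ' (ν' τ)) ((φ h)⁻¹ * c * h * (y'⁻¹ * z')) := by
  classical
  set cc : Y → Y → ℂ := fun t t' => ∑ g : H, (cnt F σ G V g t : ℂ) * cnt F σ G V' g t' with hcc
  have key : ∀ τ τ' : T₀, cc (ν τ) (ν' τ') = Fintype.card H * ∑ h : G₀, ∑ c : G₀,
      if (c : Y) * (y⁻¹ * z) * (τ : Y)⁻¹ ∈ U₀ ∧ (φ h)⁻¹ * c * h * (y'⁻¹ * z') * (τ' : Y)⁻¹ ∈ U₀ then (1 : ℂ) else 0 := by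
    intro τ τ'
    obtain ⟨b, hb, h1, h2, h3⟩ := A.ex τ τ.2
    obtain ⟨b', hb', h1', h2', h3'⟩ := A'.ex τ' τ'.2
    have ht := A.K_le _ (A.map τ τ.2)
    have ht' := A'.K_le _ (A'.map τ' τ'.2)
    obtain ⟨e⟩ := nonempty_equiv_tw (V := V) (V' := V') hG₀ hFG hc A.y_mem A.z_mem hb A'.y_mem hb' hφ h1 h1' h2 h2'
      ht.2 h3 h3'
    have hfin : Finite (prs F σ G V V' (ν τ) (ν' τ')) := Finite.of_equiv _ e.symm
    have h4 := sum_cnt_mul (V := V) (V' := V') hH hL hFG hσG hc ((hH _).2 ht) ((hH _).2 ht')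
    rw [Nat.card_congr e, Nat.card_eq_fintype_card, Fintype.card_subtype (α := G₀ × G₀), Finset.card_filter] at h4
    have h6 := congrArg (Nat.cast : ℕ → ℂ) h4
    simp only [Nat.cast_sum, Nat.cast_mul, Nat.cast_ite, Nat.cast_one, Nat.cast_zero] at h6
    simp only [hcc]
    rw [← Fintype.sum_prod_type', h6]
    have h5 : ∀ q : G₀ × G₀, ((q.2 : Y) * (y⁻¹ * z) * (τ : Y)⁻¹ ∈ U₀ ∧
        (φ q.1)⁻¹ * q.2 * q.1 * (y'⁻¹ * z') * (τ' : Y)⁻¹ ∈ U₀) ↔ ((q.2 : Y) * (y⁻¹ * z) * (τ : Y)⁻¹ ∈ U ∧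
        (φ q.1)⁻¹ * q.2 * q.1 * (y'⁻¹ * z') * (τ' : Y)⁻¹ ∈ U) := fun q =>
      and_congr (hU₀ _ (mul_mem (mul_mem q.2.2 (mul_mem (inv_mem A.y_mem) A.z_mem)) (inv_mem (hT₀ τ.2))))
        (hU₀ _ (mul_mem (mul_mem (mul_mem (mul_mem (inv_mem (hφG _ q.1.2)) q.2.2) q.1.2)
          (mul_mem (inv_mem A'.y_mem) A'.z_mem)) (inv_mem (hT₀ τ'.2))))
    simp only [h5]
  have e1 : ∑ g : H, (∑ t : K, (cnt F σ G V g t : ℂ) * θ t) * (∑ t : K', (cnt F σ G V' g t : ℂ) * θ' t) =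
      ∑ t : K, ∑ t' : K', θ t * θ' t' * cc t t' := by
    simp only [Finset.sum_mul_sum]
    simp only [hcc, Finset.mul_sum]
    rw [Finset.sum_comm]
    refine Finset.sum_congr rfl fun t _ => ?_
    rw [Finset.sum_comm]
    exact Finset.sum_congr rfl fun t' _ => Finset.sum_congr rfl fun g _ => by ring
  have e2 : (Fintype.card H : ℂ) * ∑ h : G₀, ∑ c : G₀, idc U₀ T₀ (fun τ => θ (ν τ)) (c * (y⁻¹ * z)) *
      idc U₀ T₀ (fun τ => θ' (ν' τ)) ((φ h)⁻¹ * c * h * (y'⁻¹ * z')) =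
      ∑ τ : T₀, ∑ τ' : T₀, θ (ν τ) * θ' (ν' τ') * cc (ν τ) (ν' τ') := by
    simp only [idc, Finset.sum_mul_sum]
    simp only [key, Finset.mul_sum]
    symm
    simp only [Finset.sum_comm (γ := T₀) (α := G₀)]
    refine Finset.sum_congr rfl fun h _ => Finset.sum_congr rfl fun c _ => ?_
    refine Finset.sum_congr rfl fun τ _ => Finset.sum_congr rfl fun τ' _ => ?_
    by_cases h1 : (c : Y) * (y⁻¹ * z) * (τ : Y)⁻¹ ∈ U₀ <;>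
      by_cases h2 : (φ h)⁻¹ * c * h * (y'⁻¹ * z') * (τ' : Y)⁻¹ ∈ U₀ <;> simp [h1, h2, mul_comm]
  have e3 := sum_comp_surj A.map A.mul A.surj fun t => ∑ τ' : T₀, θ t * θ' (ν' τ') * cc t (ν' τ')
  have e4 : ∀ t : K, (Fintype.card K' : ℂ) * ∑ τ' : T₀, θ t * θ' (ν' τ') * cc t (ν' τ') =
      Fintype.card T₀ * ∑ t' : K', θ t * θ' t' * cc t t' := fun t =>
    sum_comp_surj A'.map A'.mul A'.surj fun t' => θ t * θ' t' * cc t t'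
  calc _ = (Fintype.card T₀ : ℂ) * ∑ t : K, Fintype.card T₀ * ∑ t' : K', θ t * θ' t' * cc t t' := by
        rw [e1, ← Finset.mul_sum]; ring
    _ = (Fintype.card K' : ℂ) * (Fintype.card T₀ * ∑ t : K, ∑ τ' : T₀, θ t * θ' (ν' τ') * cc t (ν' τ')) := by
        rw [Finset.sum_congr rfl fun t _ => (e4 t).symm, ← Finset.mul_sum]; ring
    _ = _ := by rw [← e3, ← e2]; ring

end Cfsg.Agent.DL.Mk
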