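import Cfsg.Agent.DL.Mk.Adm
import Cfsg.Agent.DL.Mk.Stmt

/-!
# The Mackey count for a frame (project DL; helper8)
-/

set_option autoImplicit false

namespace Cfsg.Agent.DL.Mk

open CoxeterSystem

variable {I W Y k : Type*} [Group W] [Group Y] [Field k] {M : CoxeterMatrix I}

/-- A pair `(z T z⁻¹, z U z⁻¹)` with a stable torus. -/
structure Pr (G U T : Subgroup Y) (F : MulAut Y) (e : ℕ) (z : Y) (T' K : Subgroup Y) (V : Set Y) : Prop where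
  z_mem : z ∈ G
  z_fix : (F ^ e) z = z
  mem_T : ∀ t, t ∈ T' ↔ z⁻¹ * t * z ∈ T
  maps : ∀ t, F t ∈ T' ↔ t ∈ T'
  mem_K : ∀ t, t ∈ K ↔ t ∈ T' ∧ F t = t
  mem_V : ∀ r, r ∈ V ↔ z⁻¹ * r * z ∈ U

/-- `F⁻¹ (z n₀⁻¹)` -/
def yy (F : MulAut Y) (n₀ z : Y) : Y := F⁻¹ (z * n₀⁻¹)

theorem F_yy (F : MulAut Y) (n₀ z : Y) : F (yy F n₀ z) = z * n₀⁻¹ := by simp [yy]

/-- the quasi-split form of `F` -/
def qs (F : MulAut Y) (n₀ : Y) : Y →* Y := (MulAut.conj n₀⁻¹).toMonoidHom.comp F.toMonoidHom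

theorem qs_apply (F : MulAut Y) (n₀ h : Y) : qs F n₀ h = n₀⁻¹ * F h * n₀ := by simp [qs]

/-- the character of the split torus of level `j` attached to `θ` -/
def chOf (F : MulAut Y) (j : ℕ) (z : Y) (θ : Y → ℂ) (τ : Y) : ℂ := θ (nrm F j (z * τ⁻¹ * z⁻¹))

theorem chOf_xx (F : MulAut Y) (j : ℕ) (y z : Y) (θ : Y → ℂ) (t : Y) :
    chOf F j z θ ((y⁻¹ * z)⁻¹ * t⁻¹ * (y⁻¹ * z)) = θ (nrm F j (y * t * y⁻¹)) := by
  unfold chOf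
  congr 2; group

theorem qs_yy (F : MulAut Y) (n₀ z₁ z₂ h : Y) : qs F n₀ ((yy F n₀ z₁)⁻¹ * h * yy F n₀ z₂) = z₁⁻¹ * F h * z₂ := by
  rw [qs_apply, map_mul, map_mul, map_inv, F_yy, F_yy]; group

theorem conj_inv_pow (b t : Y) (j : ℕ) : (b⁻¹ * t⁻¹ * b) ^ j = b⁻¹ * (t ^ j)⁻¹ * b := by
  simpa using (conj_pow (a := b⁻¹) (b := t⁻¹) (i := j))

/-- the condition on the characters -/
def goodOf (cs : CoxeterSystem M W) (n : I → Y) (T₁ : Subgroup Y) (lam₂ lam₃ : Y → ℂ) (w : W) : Prop :=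
  ∀ t ∈ T₁, lam₂ t * lam₃ ((lift cs n w)⁻¹ * t⁻¹ * lift cs n w) = 1

namespace Frame

variable {cs : CoxeterSystem M W} {G U T N : Subgroup Y} {π : Y → W} {n : I → Y} {X : I → Subgroup Y}
  {F : MulAut Y} {e Q d : ℕ} {n₀ : Y} {x : I → k → Y} {a : I → kˣ →* Y}
  (A : Frame cs G U T N π n X F e Q d n₀ x a)

include A

section one

variable {z : Y} {T' K : Subgroup Y} {V : Set Y} (B : Pr G U T F e z T' K V)

include B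

omit A in
theorem conj_mem {t : Y} (ht : t ∈ T) : z * t * z⁻¹ ∈ T' := by
  rw [B.mem_T]; simpa [mul_assoc] using ht

theorem tor' : Tor F e Q T' where
  two_le := A.tor.two_le
  comm s hs t ht := by
    have h := A.tor.comm _ ((B.mem_T s).1 hs) _ ((B.mem_T t).1 ht)
    calc s * t = z * (z⁻¹ * s * z * (z⁻¹ * t * z)) * z⁻¹ := by group
      _ = t * s := by rw [h]; group
  maps t ht := (B.maps t).2 ht
  frob t ht := by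
    have h := A.tor.frob _ ((B.mem_T t).1 ht)
    rw [map_mul, map_mul, map_inv, B.z_fix] at h
    have h2 : (z⁻¹ * t * z) ^ Q = z⁻¹ * t ^ Q * z := by simpa using (conj_pow (a := z⁻¹) (b := t) (i := Q))
    rw [h2] at h
    exact mul_left_cancel (mul_right_cancel h)
  div t ht s hs := by
    obtain ⟨r, hr, h⟩ := A.tor.div _ ((B.mem_T t).1 ht) s hs
    exact ⟨z * r * z⁻¹, conj_mem B hr, by rw [conj_pow, h]; group⟩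

theorem yy_mem : yy F n₀ z ∈ G := by
  rw [← A.FG, F_yy]
  exact mul_mem B.z_mem (inv_mem (A.sbn.N_le A.n₀_mem))

theorem yy_fix : (F ^ e) (yy F n₀ z) = yy F n₀ z := by
  apply F.injective
  rw [← pow_comm_apply, F_yy, map_mul, map_inv, B.z_fix, A.σn₀]

theorem mem_T_yy (t : Y) : t ∈ T' ↔ (yy F n₀ z)⁻¹ * t * yy F n₀ z ∈ T := by
  rw [← A.FT, map_mul, map_mul, map_inv, F_yy, ← B.maps, B.mem_T]
  constructor
  · intro h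
    convert A.sbn.conj_T A.n₀_mem h using 1; group
  · intro h
    convert A.sbn.conj_T' A.n₀_mem h using 1; group

theorem xx_mem : (yy F n₀ z)⁻¹ * z ∈ N ⊓ fix (F ^ e) := by
  refine mkfx (A.norm _ (mul_mem (inv_mem (A.yy_mem B)) B.z_mem) fun t ht => ?_)
    (mul_mem (inv_mem (A.yy_fix B)) B.z_fix)
  convert (A.mem_T_yy B _).1 (conj_mem B ht) using 1; group

theorem K_le {t : Y} (ht : t ∈ K) : t ∈ G := by
  have h := A.sbn.N_le (A.sbn.T_le ((B.mem_T t).1 ((B.mem_K t).1 ht).1))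
  convert mul_mem (mul_mem B.z_mem h) (inv_mem B.z_mem) using 1; group

theorem T'_le {t : Y} (ht : t ∈ T') : t ∈ G := by
  have h := A.sbn.N_le (A.sbn.T_le ((B.mem_T t).1 ht))
  convert mul_mem (mul_mem B.z_mem h) (inv_mem B.z_mem) using 1; group

theorem tw {m : ℕ} (hm : 0 < m) : Tw F.toMonoidHom ((F ^ e) ^ m).toMonoidHom G (G ⊓ fix ((F ^ e) ^ m)) U
    (T ⊓ fix ((F ^ e) ^ m)) K V (yy F n₀ z) z (fun τ => nrm F (e * m) (z * τ⁻¹ * z⁻¹)) where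
  y_mem := mkfx (A.yy_mem B) (fix_le_pow _ m (A.yy_fix B))
  z_mem := mkfx B.z_mem (fix_le_pow _ m B.z_fix)
  K_le t ht := ⟨A.K_le B ht, ((B.mem_K t).1 ht).2⟩
  map τ hτ := by
    have h := conj_mem B (inv_mem hτ.1)
    refine (B.mem_K _).2 ⟨(A.tor' B).nrm_mem _ h, (A.tor' B).nrm_fix _ h ?_⟩
    have hz : z ∈ fix ((F ^ e) ^ m) := fix_le_pow _ m B.z_fix
    rw [pow_mul]
    exact mul_mem (mul_mem hz (inv_mem (mfx hτ))) (inv_mem hz)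
  mul s hs t ht := by
    rw [← (A.tor' B).nrm_mul _ (conj_mem B (inv_mem hs.1)) (conj_mem B (inv_mem ht.1)), A.tor.comm s hs.1 t ht.1]
    congr 1; group
  surj t ht := by
    obtain ⟨r, hr, h1, h2⟩ := (A.tor' B).nrm_surj hm ((B.mem_K t).1 ht).1 ((B.mem_K t).1 ht).2
    have hz : z ∈ fix ((F ^ e) ^ m) := fix_le_pow _ m B.z_fix
    refine ⟨z⁻¹ * r⁻¹ * z, mkfx ((B.mem_T _).1 (inv_mem hr)) (mul_mem (mul_mem (inv_mem hz) (inv_mem h1)) hz), ?_⟩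
    rw [← h2]
    congr 1; group
  ex τ hτ := by
    obtain ⟨b, hb, h⟩ := (A.tor' B).lang (conj_mem B (inv_mem hτ.1))
    refine ⟨b, A.T'_le B hb, h, ?_, fun r => ?_⟩
    · show ((F ^ e) ^ m) b * nrm F (e * m) (z * τ⁻¹ * z⁻¹) = b
      rw [h, nrm_lang, pow_mul, ← mul_assoc,
        (A.tor' B).comm _ (pow_maps (fun _ h => pow_maps (A.tor' B).maps e h) m hb) _ hb, mul_inv_cancel_right]
    · have h1 := (B.mem_T _).1 ((B.maps b).2 hb)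
      rw [B.mem_V]
      show _ ↔ z⁻¹ * (F b * r⁻¹ * (F b)⁻¹) * z ∈ U
      constructor
      · intro h2
        convert A.sbn.T_norm _ h1 _ (inv_mem h2) using 1; group
      · intro h2
        convert inv_mem (A.sbn.T_norm' h1 h2) using 1; group

theorem lin_chOf {θ : Y → ℂ} (hθ : Lin K θ) : Lin (T ⊓ fix (F ^ e)) (chOf F e z θ) := by
  have h := A.tw B one_pos
  rw [pow_one, mul_one] at h
  refine ⟨by simp [chOf, nrm_one, hθ.one], fun s hs t ht => ?_⟩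
  unfold chOf
  rw [← hθ.mul _ (h.map s hs) _ (h.map t ht), ← h.mul s hs t ht]

theorem chOf_level (θ : Y → ℂ) (m : ℕ) {t : Y} (ht : t ∈ T) :
    chOf F (e * m) z θ t = chOf F e z θ (t ^ gs Q m) := by
  unfold chOf
  rw [(A.tor' B).nrm_level m (conj_mem B (inv_mem ht)), conj_pow, inv_pow]

end one

theorem qs_mem_N {b : Y} (hb : b ∈ N) : qs F n₀ b ∈ N := by
  rw [qs_apply]
  exact mul_mem (mul_mem (inv_mem A.n₀_mem) (A.FN b hb)) A.n₀_mem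

theorem qs_fix {m : ℕ} {b : Y} (hb : b ∈ fix ((F ^ e) ^ m)) : qs F n₀ b ∈ fix ((F ^ e) ^ m) := by
  rw [qs_apply, mem_fix, map_mul, map_mul, map_inv, pow_fix A.σn₀, pow_pow_comm_apply, mem_fix.1 hb]

theorem lin_conj {b : Y} (hb : b ∈ N ⊓ fix (F ^ e)) {lam : Y → ℂ} (h : Lin (T ⊓ fix (F ^ e)) lam) :
    Lin (T ⊓ fix (F ^ e)) fun t => lam (b⁻¹ * t⁻¹ * b) := by
  have h1 : ∀ t ∈ T ⊓ fix (F ^ e), b⁻¹ * t⁻¹ * b ∈ T ⊓ fix (F ^ e) := fun t ht =>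
    mkfx (A.sbn.conj_T' hb.1 (inv_mem ht.1)) (mul_mem (mul_mem (inv_mem (mfx hb)) (inv_mem (mfx ht))) (mfx hb))
  refine ⟨by simp [h.one], fun s hs t ht => ?_⟩
  rw [← h.mul _ (h1 s hs) _ (h1 t ht), A.tor.comm s hs.1 t ht.1]
  congr 1; group

section two

variable {z₁ z₂ : Y} {T₁ K₁ T₂ K₂ H : Subgroup Y} {V₁ V₂ : Set Y} (B₁ : Pr G U T F e z₁ T₁ K₁ V₁)
  (B₂ : Pr G U T F e z₂ T₂ K₂ V₂) (hH : ∀ y, y ∈ H ↔ y ∈ G ∧ F y = y) {θ₁ θ₂ : Y → ℂ} (h₁ : Lin K₁ θ₁)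
  (h₂ : Lin K₂ θ₂)

include B₁ B₂

include hH h₁ h₂ in
/-- the count at level `m` -/
theorem level_count [Fintype W] {m : ℕ} (hm : 0 < m) (hd : Nat.card ↥(T ⊓ fix (F ^ e)) ∣ m) :
    ((Q : ℂ) ^ m) ^ (cs.length (π ((yy F n₀ z₁)⁻¹ * z₁)) + cs.length (π ((yy F n₀ z₂)⁻¹ * z₂)) +
        bnd cs fun v => π (qs F n₀ (lift cs n v))) * mkSum F ((F ^ e) ^ m) G H K₁ K₂ V₁ V₂ θ₁ θ₂ =
      (Nat.card H : ℂ) * Nat.card K₁ * Nat.card K₂ *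
        Egen cs (epsOf cs n a Q (chOf F e z₁ θ₁)) (epsOf cs n a Q (chOf F e z₂ θ₂))
          (epsOf cs n a Q fun t => chOf F e z₁ θ₁ (((yy F n₀ z₁)⁻¹ * z₁)⁻¹ * t⁻¹ * ((yy F n₀ z₁)⁻¹ * z₁)))
          (goodOf cs n (T ⊓ fix (F ^ e)) (chOf F e z₂ θ₂)
            fun t => chOf F e z₁ θ₁ (((yy F n₀ z₁)⁻¹ * z₁)⁻¹ * t⁻¹ * ((yy F n₀ z₁)⁻¹ * z₁)))
          (fun v => π (qs F n₀ (lift cs n v))) (π ((yy F n₀ z₁)⁻¹ * z₁)) (π ((yy F n₀ z₂)⁻¹ * z₂)) d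
          ((Q : ℂ) ^ m) := by
  classical
  have S := A.level m
  have hfin := A.fin m hm
  have fin : ∀ {L : Subgroup Y}, L ≤ G ⊓ fix ((F ^ e) ^ m) → Finite L := fun h =>
    Finite.of_injective _ (Subgroup.inclusion_injective h)
  have hHle : H ≤ G ⊓ fix ((F ^ e) ^ m) := fun y hy =>
    mkfx ((hH y).1 hy).1 (pow_fix (pow_fix ((hH y).1 hy).2 e) m)
  have hK₁ : K₁ ≤ H := fun t ht => (hH t).2 ⟨A.K_le B₁ ht, ((B₁.mem_K t).1 ht).2⟩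
  have hK₂ : K₂ ≤ H := fun t ht => (hH t).2 ⟨A.K_le B₂ ht, ((B₂.mem_K t).1 ht).2⟩
  have := fin hHle
  have := fin (hK₁.trans hHle)
  have := fin (hK₂.trans hHle)
  have := fin S.U_le
  have := fin (S.T_le.trans S.N_le)
  have : ∀ i, Finite ↥(X i ⊓ fix ((F ^ e) ^ m)) := fun i => fin ((S.X_le i).trans S.U_le)
  have := Fintype.ofFinite H
  have := Fintype.ofFinite K₁
  have := Fintype.ofFinite K₂
  have := Fintype.ofFinite ↥(G ⊓ fix ((F ^ e) ^ m))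
  have := Fintype.ofFinite ↥(U ⊓ fix ((F ^ e) ^ m))
  have := Fintype.ofFinite ↥(T ⊓ fix ((F ^ e) ^ m))
  have : ∀ i, Fintype ↥(X i ⊓ fix ((F ^ e) ^ m)) := fun i => Fintype.ofFinite _
  obtain ⟨tt, t1, t2⟩ := A.exists_tt
  have hx₁ := A.xx_mem B₁
  have hx₂ := A.xx_mem B₂
  set y₁ := yy F n₀ z₁ with hy₁
  set y₂ := yy F n₀ z₂ with hy₂
  have l₁ := A.lin_chOf B₁ h₁
  have l₂ := A.lin_chOf B₂ h₂
  have l₃ := A.lin_conj hx₁ l₁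
  have e₃ : ∀ t ∈ T, chOf F (e * m) z₁ θ₁ ((y₁⁻¹ * z₁)⁻¹ * t⁻¹ * (y₁⁻¹ * z₁)) =
      chOf F e z₁ θ₁ ((y₁⁻¹ * z₁)⁻¹ * (t ^ gs Q m)⁻¹ * (y₁⁻¹ * z₁)) := by
    intro t ht
    rw [A.chOf_level B₁ θ₁ m (A.sbn.conj_T' hx₁.1 (inv_mem ht)), conj_inv_pow]
  have a₁ := A.adm t1 hm hd l₁ (Λ := chOf F (e * m) z₁ θ₁) fun t ht => A.chOf_level B₁ θ₁ m ht.1
  have a₂ := A.adm t1 hm hd l₂ (Λ := chOf F (e * m) z₂ θ₂) fun t ht => A.chOf_level B₂ θ₂ m ht.1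
  have a₃ := A.adm t1 hm hd l₃ (Λ := fun t => chOf F (e * m) z₁ θ₁ ((y₁⁻¹ * z₁)⁻¹ * t⁻¹ * (y₁⁻¹ * z₁)))
    fun t ht => e₃ t ht.1
  have hl : ∀ w, lift cs n w ∈ N ⊓ fix (F ^ e) := fun w => mkfx (A.sbn.lift_mem w) (lw_mem (K := fix (F ^ e)) A.σn _)
  have E := S.efin (Q := Q ^ m) (fun i => by rw [← Nat.card_eq_fintype_card, A.card_X hm])
    (N₀ := N ⊓ fix (F ^ e)) (inf_le_inf_left _ (fix_le_pow _ m)) (fun i => mkfx (A.sbn.n_mem i) (A.σn i))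
    (A.hrk t1 t2 m) (qs F n₀) (fun u hu => mkfx (by rw [qs_apply]; exact A.FU u hu.1) (A.qs_fix (mfx hu)))
    (fun t ht => mkfx (by rw [qs_apply]; exact A.sbn.conj_T' A.n₀_mem (A.tor.maps t ht.1)) (A.qs_fix (mfx ht)))
    (fun b hb => mkfx (A.qs_mem_N hb.1) (by
      have := A.qs_fix (m := 1) (b := b) (by rw [pow_one]; exact mfx hb)
      rwa [pow_one] at this))
    a₁ a₂ a₃ hx₁ hx₂ (fun _ _ => rfl) (fun t ht => by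
      have T₁' := A.tw B₁ hm
      have hb : y₁ * t * y₁⁻¹ ∈ T₁ := by rw [A.mem_T_yy B₁]; simpa [hy₁, mul_assoc] using ht.1
      have hbσ : ((F ^ e) ^ m) (y₁ * t * y₁⁻¹) = y₁ * t * y₁⁻¹ :=
        mul_mem (mul_mem (mfx T₁'.y_mem) (mfx ht)) (inv_mem (mfx T₁'.y_mem))
      have h3 : z₁ * (qs F n₀ t)⁻¹ * z₁⁻¹ = (F (y₁ * t * y₁⁻¹))⁻¹ := by
        rw [qs_apply, map_mul, map_mul, map_inv, hy₁, F_yy]; group
      have C := A.tor' B₁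
      have k1 : ∀ s ∈ T₁, ((F ^ e) ^ m) s = s → nrm F (e * m) s ∈ K₁ := fun s hs h =>
        (B₁.mem_K _).2 ⟨C.nrm_mem _ hs, C.nrm_fix _ hs (by rwa [pow_mul])⟩
      rw [chOf_xx, chOf, h3, mul_comm, ← h₁.mul _ (k1 _ hb hbσ) _ (k1 _ (inv_mem (C.maps _ hb))
        (by rw [map_inv, pow_pow_comm_apply, hbσ])), ← C.nrm_mul _ hb (inv_mem (C.maps _ hb)), nrm_lang, pow_mul, hbσ,
        mul_inv_cancel, h₁.one])
    (good := goodOf cs n (T ⊓ fix (F ^ e)) (chOf F e z₂ θ₂)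
      fun t => chOf F e z₁ θ₁ ((y₁⁻¹ * z₁)⁻¹ * t⁻¹ * (y₁⁻¹ * z₁))) (fun w => by
      have k1 : ∀ t ∈ T, chOf F (e * m) z₂ θ₂ t * chOf F (e * m) z₁ θ₁
          ((y₁⁻¹ * z₁)⁻¹ * ((lift cs n w)⁻¹ * t⁻¹ * lift cs n w)⁻¹ * (y₁⁻¹ * z₁)) =
          chOf F e z₂ θ₂ (t ^ gs Q m) * chOf F e z₁ θ₁
          ((y₁⁻¹ * z₁)⁻¹ * ((lift cs n w)⁻¹ * (t ^ gs Q m)⁻¹ * lift cs n w)⁻¹ * (y₁⁻¹ * z₁)) := by
        intro t ht
        rw [A.chOf_level B₂ θ₂ m ht, e₃ _ (A.sbn.conj_T' (hl w).1 (inv_mem ht)), conj_inv_pow]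
      constructor
      · intro h t ht
        rw [k1 t ht.1]
        exact h _ (A.pow_gs_mem ht)
      · intro h t ht
        obtain ⟨r, hr, rfl⟩ := A.exists_pow_gs hm ht
        rw [← k1 r hr.1]
        exact h r hr)
    (ψ := fun v => π (qs F n₀ (lift cs n v))) (fun _ => rfl) (A.cardU m hm)
  have L := lang_transport (φ := qs F n₀) (U₀ := U ⊓ fix ((F ^ e) ^ m)) hH (fun _ => Iff.rfl) (S.T_le.trans S.N_le)
    (fun u hu => and_iff_left (mfx hu)) A.lang (fun g hg => (A.FG g).2 hg)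
    (fun g hg => pow_maps (fun _ h => pow_maps (fun g hg => (A.FG g).2 hg) e h) m hg)
    (fun y => pow_pow_comm_apply F e m y)
    (fun g hg => mkfx (by
      rw [qs_apply]
      exact mul_mem (mul_mem (inv_mem (A.sbn.N_le A.n₀_mem)) ((A.FG g).2 hg.1)) (A.sbn.N_le A.n₀_mem))
      (A.qs_fix (mfx hg))) (qs_yy F n₀ z₁ z₂) (A.tw B₁ hm) (A.tw B₂ hm) θ₁ θ₂
  unfold mkSum
  simp only [finsum_eq_sum_of_fintype, Nat.card_eq_fintype_card]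
  apply mul_left_cancel₀ (pow_ne_zero 2 (card_ne_zero (T ⊓ fix ((F ^ e) ^ m))))
  rw [mul_left_comm, L, mul_left_comm]
  push_cast at E
  unfold chOf at E ⊢
  rw [E]; ring

include hH in
open Classical in
/-- the value at `1` -/
theorem count_one [Fintype W] [Finite K₁] :
    (∑ v : W, if goodOf cs n (T ⊓ fix (F ^ e)) (chOf F e z₂ θ₂)
        (fun t => chOf F e z₁ θ₁ (((yy F n₀ z₁)⁻¹ * z₁)⁻¹ * t⁻¹ * ((yy F n₀ z₁)⁻¹ * z₁)))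
        (v * π ((yy F n₀ z₂)⁻¹ * z₂))⁻¹ ∧
      π ((yy F n₀ z₁)⁻¹ * z₁) * π (qs F n₀ (lift cs n v)) = v * π ((yy F n₀ z₂)⁻¹ * z₂) then 1 else 0) *
        Nat.card K₁ =
      Nat.card {h : H // (∀ t, t ∈ T₂ ↔ (h : Y)⁻¹ * t * h ∈ T₁) ∧ ∀ t ∈ K₁, θ₁ t * θ₂ (h * t * (h : Y)⁻¹) = 1} := by
  have S := A.sbn
  have hx₁ := (A.xx_mem B₁).1
  have hx₂ := (A.xx_mem B₂).1
  have m₁ := A.mem_T_yy B₁
  have m₂ := A.mem_T_yy B₂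
  have g₁ := A.yy_mem B₁
  have g₂ := A.yy_mem B₂
  have hq := qs_yy F n₀ z₁ z₂
  have tw₂ := A.tw B₂ one_pos
  rw [pow_one, mul_one] at tw₂
  set y₁ := yy F n₀ z₁ with hy₁
  set y₂ := yy F n₀ z₂ with hy₂
  -- elements conjugating the tori
  have n1 : ∀ h ∈ G, (∀ t, t ∈ T₂ ↔ h⁻¹ * t * h ∈ T₁) → y₁⁻¹ * h⁻¹ * y₂ ∈ N := by
    intro h hG hc
    refine A.norm _ (mul_mem (mul_mem (inv_mem g₁) (inv_mem hG)) g₂) fun t ht => ?_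
    have h1 : y₂ * t * y₂⁻¹ ∈ T₂ := by rw [m₂]; simpa [mul_assoc] using ht
    convert (m₁ _).1 ((hc _).1 h1) using 1; group
  have n2 : ∀ h, y₁⁻¹ * h⁻¹ * y₂ ∈ N → ∀ t, t ∈ T₂ ↔ h⁻¹ * t * h ∈ T₁ := by
    intro h hN t
    rw [m₁, m₂]
    constructor
    · intro ht
      convert S.conj_T hN ht using 1; group
    · intro ht
      convert S.conj_T' hN ht using 1; group
  -- the two conditions for an element of `H`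
  have c1 : ∀ h, F h = h → y₁⁻¹ * h⁻¹ * y₂ ∈ N → ∀ v, π (y₁⁻¹ * h⁻¹ * y₂) = v →
      π (y₁⁻¹ * z₁) * π (qs F n₀ (lift cs n v)) = v * π (y₂⁻¹ * z₂) := by
    intro h hF hN v hv
    have h1 := S.mem_T_of_π_eq' hN (S.lift_mem v) (hv.trans (S.π_lift v).symm)
    have h2 : qs F n₀ (lift cs n v) =
        qs F n₀ (y₁⁻¹ * h⁻¹ * y₂) * qs F n₀ ((y₁⁻¹ * h⁻¹ * y₂)⁻¹ * lift cs n v) := by
      rw [← map_mul]; congr 1; group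
    have h3 : qs F n₀ ((y₁⁻¹ * h⁻¹ * y₂)⁻¹ * lift cs n v) ∈ T := by
      rw [qs_apply]; exact S.conj_T' A.n₀_mem (A.tor.maps _ h1)
    rw [h2, S.π_mul_T (A.qs_mem_N hN) h3, ← S.π_mul _ hx₁ _ (A.qs_mem_N hN), ← hv, ← S.π_mul _ hN _ hx₂, hq, map_inv, hF]
    congr 1; group
  have c2 : ∀ h, F h = h → y₁⁻¹ * h⁻¹ * y₂ ∈ N → ∀ v, π (y₁⁻¹ * h⁻¹ * y₂) = v →
      (goodOf cs n (T ⊓ fix (F ^ e)) (chOf F e z₂ θ₂)
        (fun t => chOf F e z₁ θ₁ ((y₁⁻¹ * z₁)⁻¹ * t⁻¹ * (y₁⁻¹ * z₁))) (v * π (y₂⁻¹ * z₂))⁻¹ ↔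
      ∀ t ∈ K₁, θ₁ t * θ₂ (h * t * h⁻¹) = 1) := by
    intro h hF hN v hv
    have hc := n2 h hN
    have k1 : ∀ t ∈ T, chOf F e z₁ θ₁ ((y₁⁻¹ * z₁)⁻¹ * ((lift cs n (v * π (y₂⁻¹ * z₂))⁻¹)⁻¹ * t⁻¹ *
        lift cs n (v * π (y₂⁻¹ * z₂))⁻¹)⁻¹ * (y₁⁻¹ * z₁)) = θ₁ (h⁻¹ * nrm F e (z₂ * t⁻¹ * z₂⁻¹) * h) := by
      intro t ht
      have h1 := S.conj_T_eq (inv_mem (S.lift_mem (v * π (y₂⁻¹ * z₂))⁻¹)) (mul_mem hN hx₂)
        (by rw [S.π_inv (S.lift_mem _), S.π_lift, inv_inv, S.π_mul _ hN _ hx₂, hv]) (inv_mem ht)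
      rw [inv_inv] at h1
      rw [chOf_xx, h1, ← nrm_conj hF]
      congr 2; group
    have k2 : ∀ t ∈ K₁, h * t * h⁻¹ ∈ K₂ := fun t ht => (B₂.mem_K _).2 ⟨(hc _).2 (by
      simpa [mul_assoc] using ((B₁.mem_K t).1 ht).1), by rw [map_mul, map_mul, map_inv, hF, ((B₁.mem_K t).1 ht).2]⟩
    have k3 : ∀ t ∈ K₂, h⁻¹ * t * h ∈ K₁ := fun t ht => (B₁.mem_K _).2 ⟨(hc _).1 ((B₂.mem_K t).1 ht).1,
      by rw [map_mul, map_mul, map_inv, hF, ((B₂.mem_K t).1 ht).2]⟩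
    constructor
    · intro hg t ht
      obtain ⟨r, hr, e1⟩ := tw₂.surj _ (k2 t ht)
      have h1 := hg r hr
      simp only at h1 e1
      rw [k1 r hr.1, chOf, e1, mul_comm] at h1
      simpa [mul_assoc] using h1
    · intro hg t ht
      have h1 := hg _ (k3 _ (tw₂.map t ht))
      simp only at h1 ⊢
      rw [k1 t ht.1, chOf, mul_comm]
      simpa [mul_assoc] using h1
  have c3 : ∀ v, π (y₁⁻¹ * z₁) * π (qs F n₀ (lift cs n v)) = v * π (y₂⁻¹ * z₂) →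
      ∃ h ∈ H, y₁⁻¹ * h⁻¹ * y₂ ∈ N ∧ π (y₁⁻¹ * h⁻¹ * y₂) = v := by
    intro v hv
    have hl := S.lift_mem v
    have h1 := S.mem_T_of_π_eq (mul_mem hx₁ (A.qs_mem_N hl)) (mul_mem hl hx₂)
      (by rw [S.π_mul _ hx₁ _ (A.qs_mem_N hl), S.π_mul _ hl _ hx₂, S.π_lift, hv])
    have h2 := hq (y₁ * lift cs n v * y₂⁻¹)
    have h3 : y₁⁻¹ * (y₁ * lift cs n v * y₂⁻¹) * y₂ = lift cs n v := by group
    rw [h3] at h2
    set g := y₁ * lift cs n v * y₂⁻¹ with hg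
    have h4 : F g * g⁻¹ ∈ T₁ := by
      rw [m₁]
      convert h1 using 1
      rw [h2, hg]; group
    obtain ⟨b, hb, e1⟩ := (A.tor' B₁).lang (inv_mem h4)
    have h5 : F (b⁻¹ * g) = b⁻¹ * g := by
      rw [map_mul, map_inv]
      calc (F b)⁻¹ * F g = b⁻¹ * (b * (F b)⁻¹) * F g := by group
        _ = _ := by rw [← e1]; group
    have h6 : y₁⁻¹ * (b⁻¹ * g)⁻¹⁻¹ * y₂ = (y₁⁻¹ * b⁻¹ * y₁) * lift cs n v := by rw [hg]; group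
    have h7 := (m₁ _).1 (inv_mem hb)
    refine ⟨(b⁻¹ * g)⁻¹, inv_mem ((hH _).2 ⟨mul_mem (inv_mem (A.T'_le B₁ hb))
      (mul_mem (mul_mem g₁ (S.N_le hl)) (inv_mem g₂)), h5⟩), ?_, ?_⟩
    · rw [h6]; exact mul_mem (S.T_le h7) hl
    · rw [h6, S.π_T_mul h7 hl, S.π_lift]
  choose! η η1 η2 η3 using c3
  rw [← Finset.card_filter, ← Fintype.card_subtype, ← Nat.card_eq_fintype_card, ← Nat.card_prod]
  have d1 : ∀ v h, y₁⁻¹ * h⁻¹ * y₂ ∈ N → π (y₁⁻¹ * h⁻¹ * y₂) = v → ∀ t ∈ K₁,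
      y₁⁻¹ * (h * t)⁻¹ * y₂ ∈ N ∧ π (y₁⁻¹ * (h * t)⁻¹ * y₂) = v := by
    intro v h hN hv t ht
    have h1 := (m₁ _).1 (inv_mem ((B₁.mem_K t).1 ht).1)
    have h2 : y₁⁻¹ * (h * t)⁻¹ * y₂ = (y₁⁻¹ * t⁻¹ * y₁) * (y₁⁻¹ * h⁻¹ * y₂) := by group
    rw [h2]
    exact ⟨mul_mem (S.T_le h1) hN, by rw [S.π_T_mul h1 hN, hv]⟩
  have d2 : ∀ t ∈ K₁, t ∈ H := fun t ht => (hH t).2 ⟨A.K_le B₁ ht, ((B₁.mem_K t).1 ht).2⟩
  refine Nat.card_eq_of_bijective (fun q => ⟨⟨η q.1.1 * q.2, mul_mem (η1 _ q.1.2.2) (d2 _ q.2.2)⟩,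
    n2 _ (d1 _ _ (η2 _ q.1.2.2) (η3 _ q.1.2.2) _ q.2.2).1,
    (c2 _ ((hH _).1 (mul_mem (η1 _ q.1.2.2) (d2 _ q.2.2))).2 (d1 _ _ (η2 _ q.1.2.2) (η3 _ q.1.2.2) _ q.2.2).1 _
      (d1 _ _ (η2 _ q.1.2.2) (η3 _ q.1.2.2) _ q.2.2).2).1 q.1.2.1⟩) ⟨?_, ?_⟩
  · rintro ⟨⟨v, hv⟩, t⟩ ⟨⟨v', hv'⟩, t'⟩ e1
    have h1 : η v * t = η v' * t' := congrArg (fun w => (w.1.1 : Y)) e1
    have h2 := (d1 _ _ (η2 _ hv.2) (η3 _ hv.2) _ t.2).2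
    rw [h1, (d1 _ _ (η2 _ hv'.2) (η3 _ hv'.2) _ t'.2).2] at h2
    subst h2
    exact Prod.ext rfl (Subtype.ext (mul_left_cancel h1))
  · rintro ⟨⟨h, hh⟩, h1, h2⟩
    obtain ⟨hG, hF⟩ := (hH h).1 hh
    have hN := n1 h hG h1
    have h3 := c1 h hF hN _ rfl
    have h4 : (η (π (y₁⁻¹ * h⁻¹ * y₂)))⁻¹ * h ∈ K₁ := by
      refine (B₁.mem_K _).2 ⟨?_, ((hH _).1 (mul_mem (inv_mem (η1 _ h3)) hh)).2⟩
      rw [m₁]
      convert S.mem_T_of_π_eq (η2 _ h3) hN (η3 _ h3) using 1; group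
    exact ⟨(⟨_, (c2 h hF hN _ rfl).2 h2, h3⟩, ⟨_, h4⟩), Subtype.ext (Subtype.ext (by simp))⟩

include hH h₁ h₂ in
/-- **The Mackey count for a frame.** -/
theorem mackey [Finite W] : ∃ r : ℕ, 0 < r ∧ ∃ (P : Polynomial ℤ) (L : ℕ),
    (∀ m, 0 < m → r ∣ m → ((Q : ℂ) ^ m) ^ L * mkSum F ((F ^ e) ^ m) G H K₁ K₂ V₁ V₂ θ₁ θ₂ =
      (Nat.card H : ℂ) * Nat.card K₁ * Nat.card K₂ * Polynomial.aeval ((Q : ℂ) ^ m) P) ∧
    P.eval 1 * Nat.card K₁ =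
      Nat.card {h : H // (∀ t, t ∈ T₂ ↔ (h : Y)⁻¹ * t * h ∈ T₁) ∧ ∀ t ∈ K₁, θ₁ t * θ₂ (h * t * (h : Y)⁻¹) = 1} := by
  classical
  have := Fintype.ofFinite W
  have hfin := A.fin 1 one_pos
  rw [pow_one] at hfin
  have : Finite ↥(T ⊓ fix (F ^ e)) := Finite.of_injective _
    (Subgroup.inclusion_injective (inf_le_inf_right _ (A.sbn.T_le.trans A.sbn.N_le) : _ ≤ G ⊓ fix (F ^ e)))
  have : Finite K₁ := Finite.of_injective _ (Subgroup.inclusion_injective (fun t ht =>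
    mkfx (A.K_le B₁ ht) (pow_fix ((B₁.mem_K t).1 ht).2 e) : K₁ ≤ G ⊓ fix (F ^ e)))
  refine ⟨Nat.card ↥(T ⊓ fix (F ^ e)), Nat.card_pos, Egen cs (epsOf cs n a Q (chOf F e z₁ θ₁))
    (epsOf cs n a Q (chOf F e z₂ θ₂))
    (epsOf cs n a Q fun t => chOf F e z₁ θ₁ (((yy F n₀ z₁)⁻¹ * z₁)⁻¹ * t⁻¹ * ((yy F n₀ z₁)⁻¹ * z₁)))
    (goodOf cs n (T ⊓ fix (F ^ e)) (chOf F e z₂ θ₂)
      fun t => chOf F e z₁ θ₁ (((yy F n₀ z₁)⁻¹ * z₁)⁻¹ * t⁻¹ * ((yy F n₀ z₁)⁻¹ * z₁)))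
    (fun v => π (qs F n₀ (lift cs n v))) (π ((yy F n₀ z₁)⁻¹ * z₁)) (π ((yy F n₀ z₂)⁻¹ * z₂)) d Polynomial.X, _,
    fun m hm hd => (A.level_count B₁ B₂ hH h₁ h₂ hm hd).trans ?_, ?_⟩
  · congr 1
    rw [Polynomial.aeval_def, ← Polynomial.coe_eval₂RingHom, Egen_map, Polynomial.coe_eval₂RingHom,
      Polynomial.eval₂_X]
  · rw [← Polynomial.coe_evalRingHom, Egen_map, Polynomial.coe_evalRingHom, Polynomial.eval_X, Egen_one,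
      ← A.count_one B₁ B₂ hH]
    push_cast
    rfl

end two

end Frame

end Cfsg.Agent.DL.Mk
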